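import Groth.Prelude.Def_W4c1noabschz1DP
import Groth.Agent.Lib.LunaTop28.Adic
import Groth.Agent.Lib.Compl.Complete
import Mathlib

/-! # The divided power filtration on a finite algebra over a complete local ring -/

set_option autoImplicit false
set_option linter.style.haveILetI false
set_option maxHeartbeats 400000
universe u w

open IsLocalRing W4c1noabschz1

namespace Groth.Agent.Font29

variable {S : Type w} [CommRing S] {I : Ideal S} (hI : DividedPowers I)

theorem prod_mem_dpPow {r : ℕ} (x : Fin r → S) (n : Fin r → ℕ) (hx : ∀ i, x i ∈ I) {m : ℕ} (h : m ≤ ∑ i, n i) :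
    ∏ i, hI.dpow (n i) (x i) ∈ dpPow hI m :=
  Ideal.subset_span ⟨r, x, n, hx, h, rfl⟩

theorem dpPow_mono {m n : ℕ} (h : m ≤ n) : dpPow hI n ≤ dpPow hI m :=
  Ideal.span_mono fun _ ⟨r, x, e, hx, hs, hz⟩ => ⟨r, x, e, hx, h.trans hs, hz⟩

theorem dpPow_zero : dpPow hI 0 = ⊤ :=
  (Ideal.eq_top_iff_one _).2 (by simpa using prod_mem_dpPow hI (Fin.elim0 : Fin 0 → S) Fin.elim0 (fun i => i.elim0) le_rfl)

theorem dpow_mem_dpPow {e : ℕ} {x : S} (hx : x ∈ I) : hI.dpow e x ∈ dpPow hI e := by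
  simpa using prod_mem_dpPow hI (fun _ : Fin 1 => x) (fun _ => e) (fun _ => hx) (m := e) (by simp)

theorem dpPow_mul_le (i j : ℕ) : dpPow hI i * dpPow hI j ≤ dpPow hI (i + j) := by
  rw [dpPow, dpPow, Ideal.span_mul_span']
  refine Ideal.span_le.2 ?_
  rintro _ ⟨_, ⟨r, x, n, hx, hn, rfl⟩, _, ⟨r', x', n', hx', hn', rfl⟩, rfl⟩
  refine Ideal.subset_span ⟨r + r', Fin.append x x', Fin.append n n', ?_, ?_, ?_⟩
  · intro l
    induction l using Fin.addCases with
    | left i => simpa using hx i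
    | right i => simpa using hx' i
  · rw [Fin.sum_univ_add]
    simp only [Fin.append_left, Fin.append_right]
    omega
  · rw [Fin.prod_univ_add]
    simp only [Fin.append_left, Fin.append_right]

theorem pow_mem_dpPow {i : ℕ} {w : S} (hw : w ∈ dpPow hI i) : ∀ n : ℕ, w ^ n ∈ dpPow hI (n * i) := by
  intro n
  induction n with
  | zero => rw [Nat.zero_mul, dpPow_zero hI]; trivial
  | succ n ih =>
    rw [pow_succ, Nat.succ_mul]
    exact dpPow_mul_le hI _ _ (Ideal.mul_mem_mul ih hw)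

theorem le_dpPow_one : I ≤ dpPow hI 1 := fun x hx => by simpa [hI.dpow_one hx] using dpow_mem_dpPow hI (e := 1) hx

theorem dpPow_one_le : dpPow hI 1 ≤ I := by
  rw [dpPow, Ideal.span_le]
  rintro _ ⟨r, x, n, hx, hn, rfl⟩
  obtain ⟨i, hi⟩ : ∃ i, n i ≠ 0 := by
    by_contra h
    push_neg at h
    simp [h] at hn
  exact Ideal.mem_of_dvd _ (Finset.dvd_prod_of_mem _ (Finset.mem_univ i)) (hI.dpow_mem hi (hx i))

theorem dpPow_le {k : ℕ} (hk : 1 ≤ k) : dpPow hI k ≤ I := (dpPow_mono hI hk).trans (dpPow_one_le hI)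

/-- divided powers of degree at least two go deeper -/
theorem dpow_mem_succ {k : ℕ} (hk : 1 ≤ k) {t : S} (ht : t ∈ dpPow hI k) :
    t ∈ I ∧ ∀ n, 2 ≤ n → hI.dpow n t ∈ dpPow hI (k + 1) := by
  refine Submodule.span_induction (p := fun t _ => t ∈ I ∧ ∀ n, 2 ≤ n → hI.dpow n t ∈ dpPow hI (k + 1)) ?_ ?_ ?_ ?_ ht
  · rintro _ ⟨r, x, e, hx, he, rfl⟩
    refine ⟨dpPow_le hI hk (prod_mem_dpPow hI x e hx he), fun n hn => ?_⟩
    obtain ⟨i, hi⟩ : ∃ i, e i ≠ 0 := by
      by_contra h
      push_neg at h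
      simp [h] at he
      omega
    rw [← Finset.mul_prod_erase _ _ (Finset.mem_univ i), mul_comm, hI.dpow_mul (hI.dpow_mem hi (hx i)),
      hI.dpow_comp hi (hx i)]
    have hw : ∏ j ∈ Finset.univ.erase i, hI.dpow (e j) (x j) ∈ dpPow hI (∑ j ∈ Finset.univ.erase i, e j) := by
      have h := prod_mem_dpPow hI x (Function.update e i 0) hx (m := ∑ j ∈ Finset.univ.erase i, e j) (by
        rw [← Finset.add_sum_erase _ _ (Finset.mem_univ i), Function.update_self, zero_add]
        exact (Finset.sum_congr rfl fun j hj => (Function.update_of_ne (Finset.ne_of_mem_erase hj) _ _).symm).le)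
      rw [← Finset.mul_prod_erase _ _ (Finset.mem_univ i), Function.update_self, hI.dpow_zero (hx i), one_mul] at h
      rwa [Finset.prod_congr rfl fun j hj => show hI.dpow (Function.update e i 0 j) (x j) = hI.dpow (e j) (x j) by
        rw [Function.update_of_ne (Finset.ne_of_mem_erase hj)]] at h
    rw [← mul_assoc, mul_comm _ (Nat.uniformBell n (e i) : S), mul_assoc]
    refine Ideal.mul_mem_left _ _ (dpPow_mono hI ?_
      (dpPow_mul_le hI _ _ (Ideal.mul_mem_mul (pow_mem_dpPow hI hw n) (dpow_mem_dpPow hI (e := n * e i) (hx i)))))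
    have h5 := Finset.add_sum_erase _ e (Finset.mem_univ i)
    nlinarith
  · exact ⟨zero_mem _, fun n hn => by rw [hI.dpow_eval_zero (by omega)]; exact zero_mem _⟩
  · intro a b ha hb ⟨haI, ha2⟩ ⟨hbI, hb2⟩
    refine ⟨add_mem haI hbI, fun n hn => ?_⟩
    rw [hI.dpow_add haI hbI]
    refine Ideal.sum_mem _ fun ij hij => ?_
    rw [Finset.HasAntidiagonal.mem_antidiagonal] at hij
    have hmem : ∀ (i : ℕ) (z : S), 1 ≤ i → z ∈ dpPow hI k → z ∈ I → (∀ n, 2 ≤ n → hI.dpow n z ∈ dpPow hI (k + 1)) →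
        hI.dpow i z ∈ dpPow hI k := by
      intro i z hi hz hzI hz2
      rcases Nat.lt_or_ge i 2 with h | h
      · rw [show i = 1 by omega, hI.dpow_one hzI]; exact hz
      · exact dpPow_mono hI (Nat.le_succ k) (hz2 i h)
    by_cases h1 : ij.1 = 0
    · exact Ideal.mul_mem_left _ _ (hb2 _ (by omega))
    by_cases h2 : ij.2 = 0
    · exact Ideal.mul_mem_right _ _ (ha2 _ (by omega))
    exact dpPow_mono hI (show k + 1 ≤ k + k by omega) (dpPow_mul_le hI k k
      (Ideal.mul_mem_mul (hmem _ a (by omega) ha haI ha2) (hmem _ b (by omega) hb hbI hb2)))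
  · intro c a ha ⟨haI, ha2⟩
    refine ⟨Ideal.mul_mem_left _ _ haI, fun n hn => ?_⟩
    rw [smul_eq_mul, hI.dpow_mul haI]
    exact Ideal.mul_mem_left _ _ (ha2 n hn)

variable {O : Type u} [CommRing O] [IsLocalRing O] [IsNoetherianRing O] [IsAdicComplete (maximalIdeal O) O]
  [Algebra O S] [Module.Finite O S]

/-- a sequence that is Cauchy for a separated filtration converges -/
theorem exists_limit (F : ℕ → Submodule O S) (hF : Antitone F) (h0 : ∀ x, (∀ n, x ∈ F n) → x = 0) (u : ℕ → S)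
    (hu : ∀ n, u (n + 1) - u n ∈ F n) : ∃ L : S, ∀ n, L - u n ∈ F n := by
  have hu' : ∀ {m n}, m ≤ n → u n - u m ∈ F m := by
    intro m n h
    induction n, h using Nat.le_induction with
    | base => simp
    | succ n hn ih =>
      rw [show u (n + 1) - u m = (u (n + 1) - u n) + (u n - u m) by abel]
      exact add_mem (hF hn (hu n)) ih
  choose N hN using LunaTop28.chevalley F hF h0
  let φ : ℕ → ℕ := fun j => j + ∑ i ∈ Finset.range (j + 1), N i
  have hφN : ∀ j, N j ≤ φ j := fun j =>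
    (Finset.single_le_sum (f := N) (fun _ _ => Nat.zero_le _) (Finset.self_mem_range_succ j)).trans (Nat.le_add_left _ _)
  have hφ : ∀ j, F (φ j) ≤ (maximalIdeal O ^ j • ⊤ : Submodule O S) := fun j => (hF (hφN j)).trans (hN j)
  have hmono : ∀ j, φ j ≤ φ (j + 1) := fun j =>
    Nat.add_le_add (Nat.le_succ j) (Finset.sum_le_sum_of_subset (Finset.range_mono (Nat.le_succ _)))
  obtain ⟨L, hL⟩ := LunaTop28.exists_limit (fun j => u (φ j)) fun j => hφ j (hu' (hmono j))
  refine ⟨L, fun k => LunaTop28.mem_of_forall_mem_sup_pow _ _ fun j => ?_⟩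
  rw [show L - u k = (u (φ j) - u k) + (L - u (φ j)) by abel]
  refine add_mem ?_ (Submodule.mem_sup_right (hL j))
  rcases le_total k (φ j) with h | h
  · exact Submodule.mem_sup_left (hu' h)
  · rw [← neg_sub]
    exact Submodule.mem_sup_right (neg_mem (hφ j (hu' h)))

variable (O) in
include O in
theorem exists_limit_dp (htn : IsDPTopNilpotent hI) (u : ℕ → S)
    (hu : ∀ n, u (n + 1) - u n ∈ dpPow hI n) : ∃ L : S, ∀ n, L - u n ∈ dpPow hI n :=
  exists_limit (fun n => (dpPow hI n).restrictScalars O) (fun _ _ h => dpPow_mono hI h)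
    (fun x hx => by
      have h : x ∈ ⨅ n, dpPow hI n := (Submodule.mem_iInf _).2 hx
      rwa [htn, Ideal.mem_bot] at h) u hu

include hI in
theorem isUnit_one_add [Module.Projective O S] {p : ℕ} [hp : Fact p.Prime] (hpO : (p : O) ∈ maximalIdeal O) {x : S} (hx : x ∈ I) :
    IsUnit (1 + x) := by
  haveI : IsAdicComplete (maximalIdeal O) S := Hens.isAdicComplete_of_finite_projective (maximalIdeal O) S
  haveI : IsAdicComplete ((maximalIdeal O).map (algebraMap O S)) S :=
    (IsAdicComplete.map_algebraMap_iff (S := S) _ _).2 ‹_›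
  have hle := IsAdicComplete.le_jacobson_bot ((maximalIdeal O).map (algebraMap O S))
  have h : x ^ p ∈ (⊥ : Ideal S).jacobson := by
    rw [← hI.factorial_mul_dpow_eq_pow hx]
    refine hle (Ideal.mul_mem_right _ _ ?_)
    obtain ⟨c, hc⟩ := Nat.dvd_factorial hp.out.pos le_rfl
    rw [hc, Nat.cast_mul]
    refine Ideal.mul_mem_right _ _ ?_
    rw [← map_natCast (algebraMap O S) p]
    exact Ideal.mem_map_of_mem _ hpO
  have h2 : x ∈ (⊥ : Ideal S).jacobson := by
    rw [Ideal.jacobson, Submodule.mem_sInf] at h ⊢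
    exact fun M hM => hM.2.isPrime.mem_of_pow_mem p (h M hM)
  have := Ideal.mem_jacobson_bot.1 h2 1
  rwa [mul_one, add_comm] at this

end Groth.Agent.Font29
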