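import Groth.Agent.Lib.H2Alg.PSHom
import Mathlib

/-! # Generators of a finite local quotient of a power series ring chosen by the differentials -/

set_option autoImplicit false
set_option linter.style.haveILetI false
set_option maxHeartbeats 400000
universe u v

open IsLocalRing

namespace Groth.Agent.Font29

variable {O : Type u} [CommRing O] [IsLocalRing O] {m : ℕ} {A : Type v} [CommRing A] [IsLocalRing A] [Algebra O A]

theorem constantCoeff_mem {π : MvPowerSeries (Fin m) O →ₐ[O] A} {F : MvPowerSeries (Fin m) O}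
    (hF : π F ∈ maximalIdeal A) : MvPowerSeries.constantCoeff F ∈ maximalIdeal O := by
  show MvPowerSeries.constantCoeff F ∈ nonunits O
  intro hu
  exact hF (((MvPowerSeries.isUnit_iff_constantCoeff).2 hu).map π)

theorem gen_mem_max {π : MvPowerSeries (Fin m) O →ₐ[O] A} (hπ : Function.Surjective π) (l : Fin m) :
    π (MvPowerSeries.X l) ∈ maximalIdeal A := by
  rw [← map_maximalIdeal_of_surjective π.toRingHom hπ]
  refine Ideal.mem_map_of_mem π.toRingHom ?_
  show _ ∈ nonunits _
  rw [mem_nonunits_iff, MvPowerSeries.isUnit_iff_constantCoeff, MvPowerSeries.constantCoeff_X]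
  exact not_isUnit_zero

theorem algebraMap_mem_iff {π : MvPowerSeries (Fin m) O →ₐ[O] A} (hπ : Function.Surjective π) (c : O) :
    algebraMap O A c ∈ maximalIdeal A ↔ c ∈ maximalIdeal O := by
  constructor
  · intro h
    show c ∈ nonunits O
    intro hu
    exact h (hu.map _)
  · intro h
    rw [← map_maximalIdeal_of_surjective π.toRingHom hπ, ← π.commutes]
    refine Ideal.mem_map_of_mem π.toRingHom ?_
    show _ ∈ nonunits _
    rw [mem_nonunits_iff, MvPowerSeries.isUnit_iff_constantCoeff]
    exact h

theorem sub_constantCoeff_mem (F : MvPowerSeries (Fin m) O) :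
    F - MvPowerSeries.C (MvPowerSeries.constantCoeff F) ∈ H2Alg.PSHom.V m O := by
  have := H2Alg.PSHom.mem_pow (m := 1) (f := F - MvPowerSeries.C (MvPowerSeries.constantCoeff F)) fun d hd => by
    rw [Nat.lt_one_iff, Finsupp.degree_eq_zero_iff] at hd
    subst hd
    simp
  simpa using this

theorem maximalIdeal_eq {π : MvPowerSeries (Fin m) O →ₐ[O] A} (hπ : Function.Surjective π) :
    maximalIdeal A = (maximalIdeal O).map (algebraMap O A) ⊔
      Ideal.span (Set.range fun l => π (MvPowerSeries.X l)) := by
  refine le_antisymm (fun z hz => ?_) (sup_le (Ideal.map_le_iff_le_comap.2 fun c hc => (algebraMap_mem_iff hπ c).2 hc)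
    (Ideal.span_le.2 (by rintro _ ⟨l, rfl⟩; exact gen_mem_max hπ l)))
  obtain ⟨F, rfl⟩ := hπ z
  have h := Ideal.mem_map_of_mem π.toRingHom (sub_constantCoeff_mem F)
  rw [H2Alg.PSHom.V, Ideal.map_span, ← Set.range_comp] at h
  have e : π F = algebraMap O A (MvPowerSeries.constantCoeff F)
      + π (F - MvPowerSeries.C (MvPowerSeries.constantCoeff F)) := by
    rw [map_sub, show π (MvPowerSeries.C (MvPowerSeries.constantCoeff F)) = _ from π.commutes _, add_sub_cancel]
  rw [e]
  exact Submodule.add_mem_sup (Ideal.mem_map_of_mem _ (constantCoeff_mem hz)) h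

theorem kaehler_span {π : MvPowerSeries (Fin m) O →ₐ[O] A} (hπ : Function.Surjective π) [Module.Finite O A] :
    Submodule.span A (Set.range fun l => KaehlerDifferential.D O A (π (MvPowerSeries.X l))) = ⊤ := by
  refine top_unique (Submodule.le_of_le_smul_of_le_jacobson_bot (I := maximalIdeal A) ?_
    (IsLocalRing.jacobson_eq_maximalIdeal ⊥ bot_ne_top).ge ?_)
  · exact Module.finite_def.1 inferInstance
  rw [← KaehlerDifferential.span_range_derivation O A, Submodule.span_le]
  rintro _ ⟨z, rfl⟩
  obtain ⟨F, rfl⟩ := hπ z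
  have h := sub_constantCoeff_mem F
  rw [H2Alg.PSHom.V, Ideal.mem_span_range_iff_exists_fun] at h
  obtain ⟨H, hH⟩ := h
  have e : π F = algebraMap O A (MvPowerSeries.constantCoeff F) + ∑ l, π (H l) * π (MvPowerSeries.X l) := by
    rw [← π.commutes, ← Finset.sum_congr rfl fun l _ => map_mul π (H l) (MvPowerSeries.X l), ← map_sum, hH, ← map_add]
    exact congrArg π (add_sub_cancel _ _).symm
  rw [e, map_add, Derivation.map_algebraMap, zero_add, map_sum]
  refine Submodule.sum_mem _ fun l _ => ?_
  rw [Derivation.leibniz]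
  refine add_mem (Submodule.mem_sup_left (Submodule.smul_mem _ _ (Submodule.subset_span ⟨l, rfl⟩)))
    (Submodule.mem_sup_right (Submodule.smul_mem_smul (gen_mem_max hπ l) ?_))
  rw [KaehlerDifferential.span_range_derivation]
  exact Submodule.mem_top

/-- A subset of the variables whose differentials span, with no relation having a unit coefficient. -/
theorem exists_subset {π : MvPowerSeries (Fin m) O →ₐ[O] A} (hπ : Function.Surjective π) [Module.Finite O A] :
    ∃ (r : ℕ) (ι : Fin r → Fin m), Function.Injective ι ∧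
      Submodule.span A (Set.range fun t => KaehlerDifferential.D O A (π (MvPowerSeries.X (ι t)))) = ⊤ ∧
      ∀ c : Fin r → A, ∑ t, c t • KaehlerDifferential.D O A (π (MvPowerSeries.X (ι t))) = 0 →
        ∀ t, c t ∈ maximalIdeal A := by
  classical
  let d : Fin m → KaehlerDifferential O A := fun l => KaehlerDifferential.D O A (π (MvPowerSeries.X l))
  let P : Finset (Fin m) → Prop := fun T => Submodule.span A (d '' (T : Set (Fin m))) = ⊤
  have hex : ∃ n, ∃ T, P T ∧ T.card = n := ⟨_, Finset.univ, by
    show Submodule.span A (d '' ↑(Finset.univ : Finset (Fin m))) = ⊤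
    rw [Finset.coe_univ, Set.image_univ]; exact kaehler_span hπ, rfl⟩
  obtain ⟨T, hT, hcard⟩ := Nat.find_spec hex
  have hmin : ∀ T', P T' → T.card ≤ T'.card := fun T' h => hcard ▸ Nat.find_min' hex ⟨T', h, rfl⟩
  let ι : Fin T.card → Fin m := fun t => T.orderEmbOfFin rfl t
  have hι : Function.Injective ι := (T.orderEmbOfFin rfl).injective
  have hrange : Set.range ι = (T : Set (Fin m)) := Finset.range_orderEmbOfFin T rfl
  refine ⟨T.card, ι, hι, ?_, fun c hc t => ?_⟩
  · rw [show (fun t => KaehlerDifferential.D O A (π (MvPowerSeries.X (ι t)))) = d ∘ ι from rfl, Set.range_comp, hrange]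
    exact hT
  · by_contra ht
    obtain ⟨u, hu⟩ := (IsLocalRing.notMem_maximalIdeal.1 ht)
    have hT' : P (T.erase (ι t)) := by
      refine top_unique (hT ▸ Submodule.span_le.2 ?_)
      rintro _ ⟨l, hl, rfl⟩
      by_cases he : l = ι t
      · subst he
        have h1 : (u : A) • d (ι t) = - ∑ s ∈ Finset.univ.erase t, c s • d (ι s) := by
          rw [← Finset.add_sum_erase _ _ (Finset.mem_univ t)] at hc
          rw [hu]
          exact eq_neg_of_add_eq_zero_left hc
        refine (Submodule.smul_mem_iff_of_isUnit _ u.isUnit).1 ?_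
        rw [h1]
        refine neg_mem (Submodule.sum_mem _ fun s hs => Submodule.smul_mem _ _ (Submodule.subset_span ⟨ι s, ?_, rfl⟩))
        rw [Finset.mem_coe, Finset.mem_erase]
        exact ⟨fun h => Finset.ne_of_mem_erase hs (hι h), Finset.orderEmbOfFin_mem _ _ _⟩
      · exact Submodule.subset_span ⟨l, by simpa [he] using hl, rfl⟩
    have h2 := hmin _ hT'
    rw [Finset.card_erase_of_mem (Finset.orderEmbOfFin_mem T rfl t)] at h2
    have := Finset.card_pos.2 ⟨ι t, Finset.orderEmbOfFin_mem T rfl t⟩
    omega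

variable {π : MvPowerSeries (Fin m) O →ₐ[O] A}

theorem exists_pow_le [Module.Finite O A] :
    ∃ N : ℕ, maximalIdeal A ^ N ≤ (maximalIdeal O).map (algebraMap O A) := by
  let J := (maximalIdeal O).map (algebraMap O A)
  let Q := A ⧸ J
  haveI : Module.Finite O Q := Module.Finite.of_surjective (Ideal.Quotient.mkₐ O J).toLinearMap Ideal.Quotient.mk_surjective
  letI : Algebra (O ⧸ maximalIdeal O) Q := Ideal.Quotient.algebraQuotientMapQuotient
  haveI : IsScalarTower O (O ⧸ maximalIdeal O) Q := .of_algebraMap_eq fun x => rfl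
  haveI : Module.Finite (O ⧸ maximalIdeal O) Q := Module.Finite.of_restrictScalars_finite O _ _
  haveI : IsArtinianRing (O ⧸ maximalIdeal O) := by
    letI := Ideal.Quotient.field (maximalIdeal O)
    infer_instance
  haveI : IsArtinianRing Q := IsArtinianRing.of_finite (O ⧸ maximalIdeal O) Q
  obtain ⟨N, hN⟩ := IsArtinianRing.isNilpotent_jacobson_bot (R := Q)
  refine ⟨N, ?_⟩
  have hle : (maximalIdeal A).map (Ideal.Quotient.mk J) ≤ (⊥ : Ideal Q).jacobson := by
    rw [Ideal.map_le_iff_le_comap]
    intro z hz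
    rw [Ideal.mem_comap, Ideal.mem_jacobson_bot]
    intro y
    obtain ⟨y, rfl⟩ := Ideal.Quotient.mk_surjective y
    rw [← map_mul, ← map_one (Ideal.Quotient.mk J), ← map_add]
    refine IsUnit.map _ (IsLocalRing.notMem_maximalIdeal.1 fun h => ?_)
    exact (IsLocalRing.maximalIdeal.isMaximal A).ne_top ((Ideal.eq_top_iff_one _).2
      (by simpa using sub_mem h (Ideal.mul_mem_right y _ hz)))
  have h1 := Ideal.pow_right_mono hle N
  rw [hN, ← Ideal.map_pow, Ideal.zero_eq_bot, le_bot_iff, Ideal.map_eq_bot_iff_le_ker, Ideal.mk_ker] at h1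
  exact h1

/-- variables whose differentials span generate -/
theorem gen_of_span (hπ : Function.Surjective π) [Module.Finite O A] [IsNoetherianRing O] {r : ℕ} (ι : Fin r → Fin m)
    (hsp : Submodule.span A (Set.range fun t => KaehlerDifferential.D O A (π (MvPowerSeries.X (ι t)))) = ⊤) :
    Function.Surjective (MvPolynomial.aeval (R := O) fun t => π (MvPowerSeries.X (ι t))) := by
  classical
  haveI : IsNoetherianRing A := IsNoetherianRing.of_finite O A
  have hres : ∀ z : A, ∃ c : O, z - algebraMap O A c ∈ maximalIdeal A := fun z => by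
    obtain ⟨F, rfl⟩ := hπ z
    refine ⟨MvPowerSeries.constantCoeff F, ?_⟩
    rw [← π.commutes, ← map_sub, ← map_maximalIdeal_of_surjective π.toRingHom hπ]
    refine Ideal.mem_map_of_mem π.toRingHom ?_
    show _ ∈ nonunits _
    rw [mem_nonunits_iff, MvPowerSeries.isUnit_iff_constantCoeff, map_sub]
    show ¬ IsUnit (MvPowerSeries.constantCoeff F - MvPowerSeries.constantCoeff (MvPowerSeries.C (MvPowerSeries.constantCoeff F)))
    rw [MvPowerSeries.constantCoeff_C, sub_self]
    exact not_isUnit_zero
  choose c hc using hres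
  let mO := (maximalIdeal O).map (algebraMap O A)
  let J := mO ⊔ maximalIdeal A ^ 2
  have hJ : ∀ {z : A} {d : O}, z - algebraMap O A d ∈ maximalIdeal A →
      Ideal.Quotient.mk J (z - algebraMap O A d) = Ideal.Quotient.mk J (z - algebraMap O A (c z)) := by
    intro z d hd
    rw [Ideal.Quotient.eq, sub_sub_sub_cancel_left, ← map_sub]
    refine Ideal.mem_sup_left (Ideal.mem_map_of_mem _ ((algebraMap_mem_iff hπ _).1 ?_))
    rw [map_sub, ← sub_sub_sub_cancel_left _ _ z]
    exact sub_mem hd (hc z)
  let δ : Derivation O A (A ⧸ J) := Derivation.mk'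
    { toFun := fun z => Ideal.Quotient.mk J (z - algebraMap O A (c z))
      map_add' := fun z w => by
        rw [← hJ (z := z + w) (d := c z + c w) (by rw [map_add, add_sub_add_comm]; exact add_mem (hc z) (hc w)),
          ← map_add, map_add, add_sub_add_comm]
      map_smul' := fun b z => by
        simp only [RingHom.id_apply]
        rw [← hJ (z := b • z) (d := b * c z) (by
          rw [Algebra.smul_def, map_mul, ← mul_sub]; exact Ideal.mul_mem_left _ _ (hc z)),
          Algebra.smul_def, Algebra.smul_def, map_mul, ← mul_sub, map_mul]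
        rfl }
    (fun z w => by
      show Ideal.Quotient.mk J (z * w - algebraMap O A (c (z * w)))
        = z • Ideal.Quotient.mk J (w - algebraMap O A (c w)) + w • Ideal.Quotient.mk J (z - algebraMap O A (c z))
      rw [← hJ (z := z * w) (d := c z * c w) (by
        rw [map_mul, show z * w - algebraMap O A (c z) * algebraMap O A (c w)
          = (z - algebraMap O A (c z)) * w + algebraMap O A (c z) * (w - algebraMap O A (c w)) by ring]
        exact add_mem (Ideal.mul_mem_right _ _ (hc z)) (Ideal.mul_mem_left _ _ (hc w))),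
        Algebra.smul_def, Algebra.smul_def, Ideal.Quotient.algebraMap_eq, ← map_mul, ← map_mul, ← map_add,
        Ideal.Quotient.eq, map_mul]
      refine Ideal.mem_sup_right ?_
      rw [show z * w - algebraMap O A (c z) * algebraMap O A (c w)
          - (z * (w - algebraMap O A (c w)) + w * (z - algebraMap O A (c z)))
          = -((z - algebraMap O A (c z)) * (w - algebraMap O A (c w))) by ring, pow_two]
      exact neg_mem (Ideal.mul_mem_mul (hc z) (hc w)))
  have hδ : ∀ z ∈ maximalIdeal A, δ z = Ideal.Quotient.mk J z := fun z hz => by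
    show Ideal.Quotient.mk J (z - algebraMap O A (c z)) = _
    rw [← hJ (z := z) (d := 0) (by rwa [map_zero, sub_zero]), map_zero, sub_zero]
  let Y := Ideal.span (Set.range fun t => π (MvPowerSeries.X (ι t)))
  have hY : maximalIdeal A ≤ mO ⊔ Y := by
    refine Submodule.le_of_le_smul_of_le_jacobson_bot (I := maximalIdeal A) (IsNoetherian.noetherian _)
      (IsLocalRing.jacobson_eq_maximalIdeal ⊥ bot_ne_top).ge ?_
    rw [smul_eq_mul, ← pow_two]
    refine (maximalIdeal_eq hπ).le.trans (sup_le (le_sup_left.trans le_sup_left) (Ideal.span_le.2 ?_))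
    rintro _ ⟨l, rfl⟩
    obtain ⟨b, hb⟩ := (Submodule.mem_span_range_iff_exists_fun A).1
      (hsp.ge (Submodule.mem_top (x := KaehlerDifferential.D O A (π (MvPowerSeries.X l)))))
    have h1 := congrArg δ.liftKaehlerDifferential hb
    rw [map_sum, Derivation.liftKaehlerDifferential_comp_D, hδ _ (gen_mem_max hπ l)] at h1
    have h2 : π (MvPowerSeries.X l) - ∑ t, b t * π (MvPowerSeries.X (ι t)) ∈ J := by
      rw [← Ideal.Quotient.eq, ← h1, map_sum]
      refine Finset.sum_congr rfl fun t _ => ?_
      rw [map_smul, Derivation.liftKaehlerDifferential_comp_D, hδ _ (gen_mem_max hπ _), map_mul]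
      rfl
    obtain ⟨p, hp, q, hq, hpq⟩ := Submodule.mem_sup.1 h2
    show π (MvPowerSeries.X l) ∈ _
    rw [show π (MvPowerSeries.X l) = p + ∑ t, b t * π (MvPowerSeries.X (ι t)) + q by
      rw [add_right_comm, hpq, sub_add_cancel]]
    refine add_mem (add_mem (Ideal.mem_sup_left (Ideal.mem_sup_left hp)) (Ideal.mem_sup_left (Ideal.mem_sup_right ?_)))
      (Ideal.mem_sup_right hq)
    exact Ideal.sum_mem _ fun t _ => Ideal.mul_mem_left _ _ (Ideal.subset_span ⟨t, rfl⟩)
  let α := MvPolynomial.aeval (R := O) fun t => π (MvPowerSeries.X (ι t))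
  have main : ∀ (N : ℕ) (z : A), ∃ F w, w ∈ mO ∧ z - α F - w ∈ maximalIdeal A ^ N := by
    intro N
    induction N with
    | zero => intro z; exact ⟨0, 0, zero_mem _, by simp⟩
    | succ N ih =>
      intro z
      obtain ⟨w, hw, y, hy, hwy⟩ := Submodule.mem_sup.1 (hY (hc z))
      obtain ⟨b, hb⟩ := Ideal.mem_span_range_iff_exists_fun.1 hy
      choose F W hW hFW using fun t => ih (b t)
      refine ⟨MvPolynomial.C (c z) + ∑ t, F t * MvPolynomial.X t, w + ∑ t, W t * π (MvPowerSeries.X (ι t)),
        add_mem hw (Ideal.sum_mem _ fun t _ => Ideal.mul_mem_right _ _ (hW t)), ?_⟩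
      have e : z - α (MvPolynomial.C (c z) + ∑ t, F t * MvPolynomial.X t) - (w + ∑ t, W t * π (MvPowerSeries.X (ι t)))
          = ∑ t, (b t - α (F t) - W t) * π (MvPowerSeries.X (ι t)) := by
        simp only [map_add, map_sum, map_mul, α, MvPolynomial.aeval_C, MvPolynomial.aeval_X, sub_mul,
          Finset.sum_sub_distrib, hb]
        linear_combination -hwy
      rw [e, pow_succ]
      exact Ideal.sum_mem _ fun t _ => Ideal.mul_mem_mul (hFW t) (gen_mem_max hπ _)
  obtain ⟨N, hN⟩ := exists_pow_le (O := O) (A := A)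
  have hB : (⊤ : Submodule O A) ≤ LinearMap.range α.toLinearMap := by
    refine Submodule.le_of_le_smul_of_le_jacobson_bot (I := maximalIdeal O) Module.Finite.fg_top
      (IsLocalRing.jacobson_eq_maximalIdeal ⊥ bot_ne_top).ge fun z _ => ?_
    obtain ⟨F, w, hw, h⟩ := main N z
    rw [show z = α F + ((z - α F - w) + w) by ring]
    refine Submodule.add_mem_sup (LinearMap.mem_range_self α.toLinearMap F) ?_
    rw [Ideal.smul_top_eq_map]
    exact add_mem (hN h) hw
  intro z
  obtain ⟨F, hF⟩ := hB (Submodule.mem_top (x := z))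
  exact ⟨F, hF⟩

end Groth.Agent.Font29
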