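import Groth.Agent.Lib.Font29.Presentation
import Mathlib

/-! # Fontaine's lifting lemma -/

set_option autoImplicit false
set_option linter.style.haveILetI false
set_option maxHeartbeats 400000
universe u v w

open IsLocalRing MvPolynomial

namespace Groth.Agent.Font29

theorem injective_mul {O : Type u} [CommRing O] [IsDomain O] {B : Type v} [CommRing B] [Algebra O B] [Module.Flat O B]
    {a : O} (ha : a ≠ 0) : Function.Injective fun z : B => algebraMap O B a * z := by
  have h : IsSMulRegular B a :=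
    Module.Flat.isSMulRegular_of_isRegular (IsRegular.of_ne_zero ha)
  intro x y hxy
  refine h ?_
  show a • x = a • y
  rw [Algebra.smul_def, Algebra.smul_def]
  exact hxy

theorem lift_unique (O : Type u) [CommRing O] [IsDomain O] [IsDiscreteValuationRing O]
    [IsAdicComplete (maximalIdeal O) O] (p : ℕ) [Fact p.Prime] (hp : (p : O) ∈ maximalIdeal O)
    (m : ℕ) (f : Fin m → MvPowerSeries (Fin m) O) (A : Type v) [CommRing A] [Algebra O A]
    (e : (MvPowerSeries (Fin m) O ⧸ Ideal.span (Set.range f)) ≃ₐ[O] A)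
    [Module.Finite O A] [Module.Flat O A] (a : O) (ha : a ≠ 0) (r : ℕ)
    (hΩ : Nonempty (KaehlerDifferential O A ≃ₗ[A] (Fin r → A ⧸ Ideal.span {algebraMap O A a})))
    (S : Type w) [CommRing S] [Algebra O S] [Module.Finite O S] [Module.Flat O S]
    (I : Ideal S) (hI : DividedPowers I) (htn : W4c1noabschz1.IsDPTopNilpotent hI) :
    Function.Injective (fun χ : A →ₐ[O] S => (Ideal.Quotient.mkₐ O I).comp χ) ∧
      Set.range (fun χ : A →ₐ[O] S => (Ideal.Quotient.mkₐ O I).comp χ) =
        Set.range (fun ψ : A →ₐ[O] (S ⧸ Ideal.span {algebraMap O S a} * I) =>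
          (Ideal.Quotient.factorₐ O (Ideal.mul_le_right (I := Ideal.span {algebraMap O S a}) (J := I))).comp ψ) := by
  haveI : Module.Free O S := Module.free_of_flat_of_isLocalRing
  have hsub : Set.range (fun χ : A →ₐ[O] S => (Ideal.Quotient.mkₐ O I).comp χ) ⊆
      Set.range (fun ψ : A →ₐ[O] (S ⧸ Ideal.span {algebraMap O S a} * I) =>
          (Ideal.Quotient.factorₐ O (Ideal.mul_le_right (I := Ideal.span {algebraMap O S a}) (J := I))).comp ψ) := by
    rintro _ ⟨χ, rfl⟩
    exact ⟨(Ideal.Quotient.mkₐ O _).comp χ, by ext z; rfl⟩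
  rcases subsingleton_or_nontrivial A with hA | hA
  · refine ⟨fun χ χ' _ => AlgHom.ext fun z => by rw [Subsingleton.elim z 0, map_zero, map_zero],
      Set.Subset.antisymm hsub ?_⟩
    rintro _ ⟨ψ, rfl⟩
    have h0 : (1 : S ⧸ Ideal.span {algebraMap O S a} * I) = 0 := by
      rw [← map_one ψ, Subsingleton.elim (1 : A) 0, map_zero]
    have h1 : (1 : S) ∈ I := by
      rw [← map_one (Ideal.Quotient.mk _), Ideal.Quotient.eq_zero_iff_mem] at h0
      exact Ideal.mul_le_right h0
    have h2 := isUnit_one_add hI (O := O) hp (neg_mem h1)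
    rw [add_neg_cancel, isUnit_zero_iff] at h2
    have hS : Subsingleton S := ⟨fun x y => by rw [← mul_one x, ← mul_one y, ← h2, mul_zero, mul_zero]⟩
    let χ : A →ₐ[O] S :=
      { toFun := fun _ => 0
        map_one' := Subsingleton.elim _ _
        map_mul' := fun _ _ => Subsingleton.elim _ _
        map_zero' := rfl
        map_add' := fun _ _ => Subsingleton.elim _ _
        commutes' := fun _ => Subsingleton.elim _ _ }
    refine ⟨χ, AlgHom.ext fun z => ?_⟩
    haveI : Subsingleton (S ⧸ I) := Function.Surjective.subsingleton Ideal.Quotient.mk_surjective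
    exact Subsingleton.elim _ _
  let π : MvPowerSeries (Fin m) O →ₐ[O] A := e.toAlgHom.comp (Ideal.Quotient.mkₐ O _)
  have hπ : Function.Surjective π := e.surjective.comp Ideal.Quotient.mk_surjective
  haveI : IsLocalRing A := IsLocalRing.of_surjective' π.toRingHom hπ
  have hker : RingHom.ker π = Ideal.span (Set.range f) := by
    ext z
    rw [RingHom.mem_ker, ← Ideal.Quotient.eq_zero_iff_mem]
    show e (Ideal.Quotient.mk _ z) = 0 ↔ _
    rw [EmbeddingLike.map_eq_zero_iff]
  obtain ⟨eΩ⟩ := hΩ
  obtain ⟨r', y, D, hy, hG⟩ := exists_data π hπ f hker a (injective_mul ha) r eΩ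
  have hinjS := injective_mul (B := S) ha
  have hchar : ∀ (B : Type w) [CommRing B] [Algebra O B] (χ : A →ₐ[O] B) (F : MvPolynomial (Fin r') O),
      aeval (fun i => χ (y i)) F = χ (aeval y F) := fun B _ _ χ F => by
    show _ = (χ.comp (aeval y)) F
    congr 1
    exact MvPolynomial.algHom_ext fun i => by simp
  refine ⟨fun χ χ' h => ?_, Set.Subset.antisymm hsub ?_⟩
  · have hu := uniq D hI hinjS htn (fun i => χ (y i)) (fun i => χ' (y i))
      (fun F hF => by
        rw [hG] at hF
        rw [hchar, show aeval y F = 0 from hF, map_zero])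
      (fun F hF => by
        rw [hG] at hF
        rw [hchar, show aeval y F = 0 from hF, map_zero])
      (fun i => (Ideal.Quotient.eq).1 (congr($h (y i))).symm)
    refine AlgHom.ext fun z => ?_
    obtain ⟨F, rfl⟩ := hy z
    rw [← hchar, ← hchar, hu]
  · rintro _ ⟨ψ, rfl⟩
    choose u₀ hu₀ using fun i => Ideal.Quotient.mk_surjective (ψ (y i))
    have h0 : ∀ F ∈ D.G, aeval u₀ F ∈ Ideal.span {algebraMap O S a} * I := by
      intro F hF
      rw [hG] at hF
      rw [← Ideal.Quotient.eq_zero_iff_mem]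
      have e1 : Ideal.Quotient.mkₐ O (Ideal.span {algebraMap O S a} * I) (aeval u₀ F) = ψ (aeval y F) := by
        show ((Ideal.Quotient.mkₐ O _).comp (aeval u₀)) F = (ψ.comp (aeval y)) F
        congr 1
        refine MvPolynomial.algHom_ext fun i => ?_
        simp only [AlgHom.comp_apply, aeval_X, Ideal.Quotient.mkₐ_eq_mk]
        exact hu₀ i
      rw [show aeval y F = 0 from hF, map_zero] at e1
      exact e1
    obtain ⟨v, hv, hvI⟩ := exists_lift D hI hinjS hp htn u₀ h0
    let χ : A →ₐ[O] S := AlgHom.liftOfSurjective (aeval y) hy (aeval v) (fun F hF => hv F (hG ▸ hF))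
    refine ⟨χ, AlgHom.ext fun z => ?_⟩
    obtain ⟨F, rfl⟩ := hy z
    show Ideal.Quotient.mk I (χ (aeval y F)) = _
    rw [show χ (aeval y F) = aeval v F from
      AlgHom.liftOfSurjective_apply _ hy _ (fun F hF => hv F (hG ▸ hF)) F]
    show ((Ideal.Quotient.mkₐ O I).comp (aeval v)) F
      = (((Ideal.Quotient.factorₐ O (Ideal.mul_le_right (I := Ideal.span {algebraMap O S a}) (J := I))).comp ψ).comp
          (aeval y)) F
    congr 1
    refine MvPolynomial.algHom_ext fun i => ?_
    simp only [AlgHom.comp_apply, aeval_X, Ideal.Quotient.mkₐ_eq_mk]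
    rw [← hu₀ i]
    exact Ideal.Quotient.eq.2 (hvI i)

end Groth.Agent.Font29
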