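import Groth.Agent.Lib.Font29.DPFilt

/-! # Newton's method with divided powers -/

set_option autoImplicit false
set_option linter.style.haveILetI false
set_option maxHeartbeats 400000
universe u w

open IsLocalRing W4c1noabschz1 MvPolynomial

namespace Groth.Agent.Font29

variable (O : Type u) [CommRing O] (r : ℕ) (a : O)

/-- A presentation with Jacobian `a` times an invertible matrix. -/
structure Data where
  /-- the ideal -/
  G : Ideal (MvPolynomial (Fin r) O)
  /-- generators near the zero locus -/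
  g : Fin r → MvPolynomial (Fin r) O
  /-- the multiplier -/
  s : MvPolynomial (Fin r) O
  /-- the Jacobian divided by `a` -/
  M : Matrix (Fin r) (Fin r) (MvPolynomial (Fin r) O)
  /-- its inverse -/
  M' : Matrix (Fin r) (Fin r) (MvPolynomial (Fin r) O)
  g_mem : ∀ i, g i ∈ G
  s_mem : s - 1 ∈ G
  s_mul : ∀ F ∈ G, s * F ∈ Ideal.span (Set.range g)
  deriv : ∀ F ∈ G, ∀ j, pderiv j F ∈ G ⊔ Ideal.span {C a}
  jac : ∀ i j, pderiv j (g i) - C a * M i j ∈ G
  inv_right : ∀ i j, ∑ l, M i l * M' l j - (if i = j then 1 else 0) ∈ G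
  inv_left : ∀ i j, ∑ l, M' i l * M l j - (if i = j then 1 else 0) ∈ G

variable {O r a} (D : Data O r a) {S : Type w} [CommRing S] [Algebra O S] {I : Ideal S} (hI : DividedPowers I)

/-- `a` times the filtration -/
noncomputable def aI (a : O) (k : ℕ) : Ideal S := Ideal.span {algebraMap O S a} * dpPow hI k

theorem mem_aI {k : ℕ} {z : S} : z ∈ aI hI a k ↔ ∃ w ∈ dpPow hI k, algebraMap O S a * w = z :=
  Ideal.mem_span_singleton_mul

theorem aI_mono {m n : ℕ} (h : m ≤ n) : aI (S := S) hI a n ≤ aI hI a m := Ideal.mul_mono_right (dpPow_mono hI h)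

theorem aI_le (k : ℕ) : aI (S := S) hI a k ≤ dpPow hI k := Ideal.mul_le_right

/-- the points where the ideal is divisible by `a` -/
def Ok (u : Fin r → S) : Prop := ∀ F ∈ D.G, algebraMap O S a ∣ aeval u F

theorem mul_mem_aI {x y : S} {i j : ℕ} (hx : x ∈ aI hI a i) (hy : y ∈ dpPow hI j) : x * y ∈ aI hI a (i + j) := by
  obtain ⟨w, hw, rfl⟩ := (mem_aI hI).1 hx
  exact (mem_aI hI).2 ⟨w * y, dpPow_mul_le hI i j (Ideal.mul_mem_mul hw hy), by ring⟩

theorem dvd_of_mem (u : Fin r → S) (hu : Ok D u) {F : MvPolynomial (Fin r) O} (hF : F ∈ D.G ⊔ Ideal.span {C a}) :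
    algebraMap O S a ∣ aeval u F := by
  obtain ⟨G, hG, w, hw, rfl⟩ := Submodule.mem_sup.1 hF
  obtain ⟨c, rfl⟩ := Ideal.mem_span_singleton'.1 hw
  rw [map_add, map_mul, aeval_C]
  exact dvd_add (hu G hG) (dvd_mul_left _ _)

theorem pderiv_mem {F : MvPolynomial (Fin r) O} (hF : F ∈ D.G ⊔ Ideal.span {C a}) (j : Fin r) :
    pderiv j F ∈ D.G ⊔ Ideal.span {C a} := by
  obtain ⟨G, hG, w, hw, rfl⟩ := Submodule.mem_sup.1 hF
  obtain ⟨c, rfl⟩ := Ideal.mem_span_singleton'.1 hw
  rw [map_add, mul_comm c, pderiv_C_mul]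
  exact add_mem (D.deriv G hG j) (Submodule.mem_sup_right (by
    exact Ideal.mul_mem_right _ _ (Ideal.subset_span rfl)))

/-- moving one coordinate -/
theorem taylor_single {k : ℕ} (hk : 1 ≤ k) (u : Fin r → S) (hu : Ok D u) (j : Fin r) {t : S} (ht : t ∈ dpPow hI k)
    {F : MvPolynomial (Fin r) O} (hF : F ∈ D.G ⊔ Ideal.span {C a}) :
    aeval (Function.update u j (u j + t)) F - aeval u F - aeval u (pderiv j F) * t ∈ aI hI a (k + 1) := by
  classical
  let φ : MvPolynomial (Fin r) O →ₐ[O] Polynomial S :=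
    aeval (Function.update (fun i => Polynomial.C (u i)) j Polynomial.X)
  have hφ : ∀ (G : MvPolynomial (Fin r) O) (v : S), (φ G).eval v = aeval (Function.update u j v) G := by
    intro G v
    show ((Polynomial.evalRingHom v).comp φ.toRingHom) G = _
    refine RingHom.congr_fun (g := (aeval (Function.update u j v) : MvPolynomial (Fin r) O →ₐ[O] S).toRingHom)
      (MvPolynomial.ringHom_ext (fun c => ?_) fun i => ?_) G
    · simp [φ]
    · by_cases h : i = j <;> simp [φ, h, Function.update_of_ne]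
  have hd : ∀ G : MvPolynomial (Fin r) O, Polynomial.derivative (φ G) = φ (pderiv j G) := by
    intro G
    induction G using MvPolynomial.induction_on with
    | C c => simp [φ]
    | add p q hp hq => simp only [map_add, hp, hq]
    | mul_X p i hp =>
      rw [map_mul, Polynomial.derivative_mul, hp, pderiv_mul, map_add, map_mul, map_mul]
      by_cases h : i = j
      · subst h; simp [φ]
      · simp [φ, h, Function.update_of_ne, pderiv_X_of_ne (Ne.symm h)]
  have hit : ∀ n, Polynomial.derivative^[n] (φ F) = φ ((pderiv j)^[n] F) := by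
    intro n
    induction n with
    | zero => rfl
    | succ n ih => rw [Function.iterate_succ_apply', Function.iterate_succ_apply', ih, hd]
  have hmem : ∀ n, (pderiv j)^[n] F ∈ D.G ⊔ Ideal.span {C a} := by
    intro n
    induction n with
    | zero => exact hF
    | succ n ih => rw [Function.iterate_succ_apply']; exact pderiv_mem D ih j
  have h0 : ∀ G, (φ G).eval (u j) = aeval u G := fun G => by rw [hφ, Function.update_eq_self]
  let T := Polynomial.taylor (u j) (φ F)
  have e1 : aeval (Function.update u j (u j + t)) F = T.eval t := by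
    rw [Polynomial.taylor_eval, hφ, add_comm]
  rw [e1, Polynomial.eval_eq_sum_range' (Nat.lt_succ_of_le (Nat.le_add_right T.natDegree 1)),
    Finset.sum_range_succ', Finset.sum_range_succ', ← h0, ← h0, ← hd]
  rw [zero_add, pow_zero, mul_one, pow_one, Polynomial.taylor_coeff_zero, Polynomial.taylor_coeff_one,
    add_sub_cancel_right, add_sub_cancel_right]
  refine Ideal.sum_mem _ fun n _ => ?_
  obtain ⟨w, hw⟩ := dvd_of_mem D u hu (hmem (n + 1 + 1))
  obtain ⟨htI, ht2⟩ := dpow_mem_succ hI hk ht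
  have hc : ((n + 1 + 1).factorial : S) * (Polynomial.taylor (u j) (φ F)).coeff (n + 1 + 1)
      = algebraMap O S a * w := by
    rw [← hw, ← h0, ← hit, Polynomial.taylor_coeff, ← Polynomial.factorial_smul_hasseDeriv]
    simp [nsmul_eq_mul]
  rw [← hI.factorial_mul_dpow_eq_pow htI, ← mul_assoc, mul_comm _ ((n + 1 + 1).factorial : S), hc, mul_assoc]
  exact (mem_aI hI).2 ⟨w * hI.dpow (n + 1 + 1) t, Ideal.mul_mem_left _ _ (ht2 _ (by omega)), rfl⟩

/-- first order expansion -/
theorem taylor {k : ℕ} (hk : 1 ≤ k) (u : Fin r → S) (hu : Ok D u) (h : Fin r → S) (hh : ∀ i, h i ∈ dpPow hI k)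
    {F : MvPolynomial (Fin r) O} (hF : F ∈ D.G ⊔ Ideal.span {C a}) :
    aeval (u + h) F - aeval u F ∈ aI hI a k ∧
      aeval (u + h) F - aeval u F - ∑ j, aeval u (pderiv j F) * h j ∈ aI hI a (k + 1) := by
  classical
  have lin : ∀ (v : Fin r → S), Ok D v → ∀ {G : MvPolynomial (Fin r) O}, G ∈ D.G ⊔ Ideal.span {C a} → ∀ (j : Fin r)
      (t : S), t ∈ dpPow hI k → aeval v (pderiv j G) * t ∈ aI hI a k := fun v hv G hG j t ht => by
    obtain ⟨w, hw⟩ := dvd_of_mem D v hv (pderiv_mem D hG j)
    rw [hw, mul_assoc]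
    exact (mem_aI hI).2 ⟨w * t, Ideal.mul_mem_left _ _ ht, rfl⟩
  suffices H : ∀ T : Finset (Fin r), ∀ G ∈ D.G ⊔ Ideal.span {C a},
      aeval (fun i => if i ∈ T then u i + h i else u i) G - aeval u G ∈ aI hI a k ∧
        aeval (fun i => if i ∈ T then u i + h i else u i) G - aeval u G - ∑ j ∈ T, aeval u (pderiv j G) * h j
          ∈ aI hI a (k + 1) by
    have := H Finset.univ F hF
    simp only [Finset.mem_univ, if_true] at this
    exact this
  intro T
  induction T using Finset.induction_on with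
  | empty => intro G _; simp
  | @insert j T hj ih =>
    intro G hG
    set v : Fin r → S := fun i => if i ∈ T then u i + h i else u i with hv
    have hv' : (fun i => if i ∈ insert j T then u i + h i else u i) = Function.update v j (v j + h j) := by
      funext i
      by_cases hi : i = j
      · subst hi; simp [v, hj]
      · simp [v, hi, Function.update_of_ne]
    have hvok : Ok D v := fun E hE => by
      have h1 := (ih E (Submodule.mem_sup_left hE)).1
      obtain ⟨w, _, hw⟩ := (mem_aI hI).1 h1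
      rw [← sub_add_cancel (aeval v E) (aeval u E), ← hw]
      exact dvd_add (dvd_mul_right _ _) (hu E hE)
    rw [hv']
    have h1 := taylor_single D hI hk v hvok j (hh j) hG
    have h2 := ih G hG
    have h3 : (aeval v (pderiv j G) - aeval u (pderiv j G)) * h j ∈ aI hI a (k + 1) :=
      aI_mono hI (by omega) (mul_mem_aI hI (ih _ (pderiv_mem D hG j)).1 (hh j))
    refine ⟨?_, ?_⟩
    · have := add_mem (add_mem (aI_mono hI (Nat.le_succ k) h1) (lin v hvok hG j _ (hh j))) h2.1
      rwa [sub_add_cancel, sub_add_sub_cancel] at this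
    · rw [Finset.sum_insert hj]
      have := add_mem (add_mem h1 h2.2) h3
      convert this using 1
      ring

theorem eval_sub_mem (u v : Fin r → S) {J : Ideal S} (h : ∀ i, v i - u i ∈ J) (F : MvPolynomial (Fin r) O) :
    aeval v F - aeval u F ∈ J := by
  rw [← Ideal.Quotient.eq_zero_iff_mem, map_sub, sub_eq_zero]
  show ((Ideal.Quotient.mkₐ O J).comp (aeval v)) F = ((Ideal.Quotient.mkₐ O J).comp (aeval u)) F
  congr 1
  refine MvPolynomial.algHom_ext fun i => ?_
  simp only [AlgHom.comp_apply, aeval_X, Ideal.Quotient.mkₐ_eq_mk]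
  exact Ideal.Quotient.eq.2 (h i)

/-- the image of the Jacobian -/
noncomputable def Mv (M : Matrix (Fin r) (Fin r) (MvPolynomial (Fin r) O)) (u h : Fin r → S) (i : Fin r) : S :=
  ∑ j, aeval u (M i j) * h j

theorem aeval_g_add {k : ℕ} (hk : 1 ≤ k) (u : Fin r → S) (hu : Ok D u)
    (hu1 : ∀ F ∈ D.G, aeval u F ∈ dpPow hI 1) (h : Fin r → S) (hh : ∀ i, h i ∈ dpPow hI k) (i : Fin r) :
    aeval (u + h) (D.g i) - aeval u (D.g i) - algebraMap O S a * Mv D.M u h i
      - ∑ j, aeval u (pderiv j (D.g i) - C a * D.M i j) * h j ∈ aI hI a (k + 1) := by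
  have h1 := (taylor D hI hk u hu h hh (Submodule.mem_sup_left (D.g_mem i))).2
  convert h1 using 1
  simp only [Mv, map_sub, map_mul, aeval_C, sub_mul, Finset.sum_sub_distrib, Finset.mul_sum, mul_assoc]
  ring

theorem inv_apply {M N : Matrix (Fin r) (Fin r) (MvPolynomial (Fin r) O)}
    (hMN : ∀ i j, ∑ l, M i l * N l j - (if i = j then 1 else 0) ∈ D.G) {k : ℕ} (u q : Fin r → S)
    (hu1 : ∀ F ∈ D.G, aeval u F ∈ dpPow hI 1) (hq : ∀ i, q i ∈ dpPow hI k) (i : Fin r) :
    Mv M u (Mv N u q) i - q i ∈ dpPow hI (k + 1) := by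
  have e : Mv M u (Mv N u q) i - q i
      = ∑ j, aeval u (∑ l, M i l * N l j - (if i = j then 1 else 0)) * q j := by
    simp only [Mv, map_sub, map_sum, map_mul, sub_mul, Finset.sum_sub_distrib, Finset.mul_sum, Finset.sum_mul,
      mul_assoc]
    rw [Finset.sum_comm]
    congr 1
    rw [Finset.sum_eq_single i (fun b _ hb => by rw [if_neg (Ne.symm hb), map_zero, zero_mul]) (by simp),
      if_pos rfl, map_one, one_mul]
  rw [e]
  refine Ideal.sum_mem _ fun j _ => ?_
  rw [Nat.add_comm k 1]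
  exact dpPow_mul_le hI 1 k (Ideal.mul_mem_mul (hu1 _ (hMN i j)) (hq j))

theorem cancel {k : ℕ} (hinj : Function.Injective fun x : S => algebraMap O S a * x) {x : S}
    (h : algebraMap O S a * x ∈ aI hI a k) : x ∈ dpPow hI k := by
  obtain ⟨w, hw, e⟩ := (mem_aI hI).1 h
  rwa [← hinj e]

variable (hinj : Function.Injective fun x : S => algebraMap O S a * x)

/-- the invariant of the iteration -/
def Inv (k : ℕ) (u : Fin r → S) : Prop :=
  (∀ F ∈ D.G, aeval u F ∈ aI hI a 1) ∧ ∀ i, aeval u (D.g i) ∈ aI hI a k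

theorem Inv.ok {k : ℕ} {u : Fin r → S} (h : Inv D hI k u) : Ok D u := fun F hF => by
  obtain ⟨w, _, hw⟩ := (mem_aI hI).1 (h.1 F hF)
  exact ⟨w, hw.symm⟩

include hinj in
theorem exists_step {k : ℕ} (hk : 1 ≤ k) (u : Fin r → S) (hu : Inv D hI k u) :
    ∃ u', Inv D hI (k + 1) u' ∧ ∀ i, u' i - u i ∈ dpPow hI k := by
  have hok := hu.ok D hI
  have hu1 : ∀ F ∈ D.G, aeval u F ∈ dpPow hI 1 := fun F hF => aI_le hI 1 (hu.1 F hF)
  choose q hq hqe using fun i => (mem_aI hI).1 (hu.2 i)
  let h : Fin r → S := fun i => - Mv D.M' u q i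
  have hh : ∀ i, h i ∈ dpPow hI k := fun i =>
    neg_mem (Ideal.sum_mem _ fun j _ => Ideal.mul_mem_left _ _ (hq j))
  refine ⟨u + h, ⟨fun F hF => ?_, fun i => ?_⟩, fun i => by simpa using hh i⟩
  · have := add_mem (aI_mono hI hk (taylor D hI hk u hok h hh (Submodule.mem_sup_left hF)).1) (hu.1 F hF)
    rwa [sub_add_cancel] at this
  · have h1 := aeval_g_add D hI hk u hok hu1 h hh i
    have h2 : algebraMap O S a * (Mv D.M u h i + q i) ∈ aI hI a (k + 1) := by
      refine (mem_aI hI).2 ⟨_, ?_, rfl⟩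
      have h3 := neg_mem (inv_apply D hI D.inv_right u q hu1 hq i)
      convert h3 using 1
      simp only [Mv, h, mul_neg, Finset.sum_neg_distrib]
      ring
    have h4 : ∑ j, aeval u (pderiv j (D.g i) - C a * D.M i j) * h j ∈ aI hI a (k + 1) := by
      refine Ideal.sum_mem _ fun j _ => ?_
      rw [Nat.add_comm k 1]
      exact mul_mem_aI hI (hu.1 _ (D.jac i j)) (hh j)
    have := add_mem (add_mem h1 h2) h4
    convert this using 1
    rw [← hqe i]
    ring

include hinj in
theorem uniq (htn : IsDPTopNilpotent hI) (u v : Fin r → S) (hu : ∀ F ∈ D.G, aeval u F = 0)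
    (hv : ∀ F ∈ D.G, aeval v F = 0) (h : ∀ i, v i - u i ∈ I) : u = v := by
  have hu1 : ∀ F ∈ D.G, aeval u F ∈ dpPow hI 1 := fun F hF => by rw [hu F hF]; exact zero_mem _
  have hok : Ok D u := fun F hF => by rw [hu F hF]; exact dvd_zero _
  have key : ∀ k, 1 ≤ k → ∀ i, v i - u i ∈ dpPow hI k := by
    intro k hk
    induction k, hk using Nat.le_induction with
    | base => exact fun i => le_dpPow_one hI (h i)
    | succ k hk ih =>
      intro i
      have e : u + (v - u) = v := by abel
      have hM : ∀ l, Mv D.M u (v - u) l ∈ dpPow hI (k + 1) := fun l => by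
        have h1 := aeval_g_add D hI hk u hok hu1 (v - u) ih l
        rw [e, hu _ (D.g_mem l), hv _ (D.g_mem l), Finset.sum_eq_zero fun j _ => by
          rw [hu _ (D.jac l j), zero_mul]] at h1
        simp only [sub_zero, zero_sub, neg_mem_iff, neg_zero] at h1
        exact cancel hI hinj h1
      have h2 := inv_apply D hI D.inv_left u (v - u) hu1 ih i
      have h3 : Mv D.M' u (Mv D.M u (v - u)) i ∈ dpPow hI (k + 1) :=
        Ideal.sum_mem _ fun j _ => Ideal.mul_mem_left _ _ (hM j)
      have := sub_mem h3 h2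
      rwa [sub_sub_cancel] at this
  funext i
  refine (sub_eq_zero.1 ?_).symm
  have hz : v i - u i ∈ ⨅ n, dpPow hI n := (Submodule.mem_iInf _).2 fun n =>
    dpPow_mono hI (Nat.le_succ n) (key (n + 1) (Nat.le_add_left 1 n) i)
  rwa [htn, Ideal.mem_bot] at hz

variable [IsLocalRing O] [IsNoetherianRing O] [IsAdicComplete (maximalIdeal O) O] [Module.Finite O S]
  [Module.Projective O S]

include hinj in
theorem exists_lift {p : ℕ} [Fact p.Prime] (hp : (p : O) ∈ maximalIdeal O) (htn : IsDPTopNilpotent hI)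
    (u₀ : Fin r → S) (h0 : ∀ F ∈ D.G, aeval u₀ F ∈ Ideal.span {algebraMap O S a} * I) :
    ∃ v : Fin r → S, (∀ F ∈ D.G, aeval v F = 0) ∧ ∀ i, v i - u₀ i ∈ I := by
  have hI1 : ∀ F ∈ D.G, aeval u₀ F ∈ aI hI a 1 := fun F hF => Ideal.mul_mono_right (le_dpPow_one hI) (h0 F hF)
  choose! f hf hf' using fun k (u : Fin r → S) (hu : Inv D hI (k + 1) u) => exists_step D hI hinj (Nat.le_add_left 1 k) u hu
  let U : ℕ → Fin r → S := fun n => n.rec u₀ fun k u => f k u
  have hU : ∀ n, Inv D hI (n + 1) (U n) := by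
    intro n
    induction n with
    | zero => exact ⟨hI1, fun i => hI1 _ (D.g_mem i)⟩
    | succ n ih => exact hf n _ ih
  choose v hv using fun i => exists_limit_dp hI O htn (fun n => U n i)
    fun n => dpPow_mono hI (Nat.le_succ n) (hf' n _ (hU n) i)
  have hvI : ∀ i, v i - u₀ i ∈ I := fun i => by
    rw [show v i - u₀ i = (v i - U 1 i) + (U 1 i - U 0 i) by rw [show U 0 i = u₀ i from rfl]; ring]
    exact dpPow_one_le hI (add_mem (hv i 1) (hf' 0 _ (hU 0) i))
  have hG : ∀ F ∈ D.G, aeval v F ∈ I := fun F hF => by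
    rw [show aeval v F = (aeval v F - aeval u₀ F) + aeval u₀ F by ring]
    exact add_mem (eval_sub_mem u₀ v hvI F) (Ideal.mul_le_right (h0 F hF))
  have hg : ∀ i, aeval v (D.g i) = 0 := fun i => by
    have hz : aeval v (D.g i) ∈ ⨅ n, dpPow hI n := (Submodule.mem_iInf _).2 fun n => by
      rw [show aeval v (D.g i) = (aeval v (D.g i) - aeval (U n) (D.g i)) + aeval (U n) (D.g i) by ring]
      exact add_mem (eval_sub_mem (U n) v (fun l => hv l n) _)
        (dpPow_mono hI (Nat.le_succ n) (aI_le hI _ ((hU n).2 i)))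
    rwa [htn, Ideal.mem_bot] at hz
  refine ⟨v, fun F hF => ?_, hvI⟩
  have h1 : aeval v (D.s * F) = 0 := by
    have hle : Ideal.span (Set.range D.g) ≤ RingHom.ker (aeval v : MvPolynomial (Fin r) O →ₐ[O] S) :=
      Ideal.span_le.2 (by rintro _ ⟨i, rfl⟩; exact hg i)
    exact hle (D.s_mul F hF)
  have hs : IsUnit (aeval v D.s) := by
    have h2 := hG _ D.s_mem
    rw [map_sub, map_one] at h2
    simpa using isUnit_one_add (O := O) hI hp h2
  rw [map_mul] at h1
  exact hs.mul_right_eq_zero.1 h1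

end Groth.Agent.Font29
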