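import Groth.Agent.Lib.Font29.Gens
import Groth.Agent.Lib.Font29.Newton
import Groth.Agent.Lib.Compl.Complete

/-! # A presentation whose Jacobian is `a` times an invertible matrix -/

set_option autoImplicit false
set_option linter.style.haveILetI false
set_option maxHeartbeats 400000
universe u v

open IsLocalRing MvPolynomial

namespace Groth.Agent.Font29

variable {O : Type u} [CommRing O] {A : Type v} [CommRing A] [Algebra O A] {r : ℕ} (y : Fin r → A)

local notation "P" => MvPolynomial (Fin r) O

/-- the differential of a polynomial at the generators -/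
noncomputable def dAt (F : MvPolynomial (Fin r) O) : Fin r → A := fun j => aeval y (pderiv j F)

theorem dAt_add (F G : P) : dAt y (F + G) = dAt y F + dAt y G := by
  funext j; simp [dAt]

theorem dAt_mul (F G : P) : dAt y (F * G) = aeval y F • dAt y G + aeval y G • dAt y F := by
  funext j; simp [dAt, pderiv_mul]

theorem d_aeval (F : P) :
    KaehlerDifferential.D O A (aeval y F) = ∑ j, dAt y F j • KaehlerDifferential.D O A (y j) := by
  classical
  induction F using MvPolynomial.induction_on with
  | C c => simp [dAt]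
  | add p q hp hq => simp [map_add, hp, hq, dAt_add, add_smul, Finset.sum_add_distrib]
  | mul_X p i hp =>
    rw [map_mul, aeval_X, Derivation.leibniz, hp, dAt_mul, Finset.smul_sum, aeval_X]
    simp only [Pi.add_apply, Pi.smul_apply, smul_eq_mul, add_smul, mul_smul, Finset.sum_add_distrib]
    congr 1
    rw [Finset.sum_eq_single i (fun b _ hb => by simp [dAt, pderiv_X_of_ne (Ne.symm hb)]) (by simp)]
    simp [dAt]

/-- the relations among the differentials -/
theorem relations_eq (hy : Function.Surjective (aeval y : P →ₐ[O] A)) (c : Fin r → A)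
    (hc : ∑ j, c j • KaehlerDifferential.D O A (y j) = 0) :
    c ∈ Submodule.span A (dAt y '' (RingHom.ker (aeval y : P →ₐ[O] A) : Set P)) := by
  classical
  set N := Submodule.span A (dAt y '' (RingHom.ker (aeval y : P →ₐ[O] A) : Set P))
  choose lift hlift using hy
  have hwd : ∀ F G : P, aeval y F = aeval y G → N.mkQ (dAt y F) = N.mkQ (dAt y G) := by
    intro F G h
    rw [Submodule.mkQ_apply, Submodule.mkQ_apply, Submodule.Quotient.eq]
    have e : dAt y F - dAt y G = dAt y (F - G) := by funext j; simp [dAt]
    rw [e]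
    refine Submodule.subset_span ⟨F - G, ?_, rfl⟩
    show aeval y (F - G) = 0
    rw [map_sub, h, sub_self]
  let δ : Derivation O A ((Fin r → A) ⧸ N) := Derivation.mk'
    { toFun := fun z => N.mkQ (dAt y (lift z))
      map_add' := fun z w => by
        rw [← map_add, ← dAt_add]; exact hwd _ _ (by rw [map_add, hlift, hlift, hlift])
      map_smul' := fun b z => by
        simp only [RingHom.id_apply]
        rw [hwd (lift (b • z)) (b • lift z) (by rw [map_smul, hlift, hlift]),
          show dAt y (b • lift z) = b • dAt y (lift z) by funext j; simp [dAt], LinearMap.map_smul_of_tower] }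
    (fun z w => by
      show N.mkQ (dAt y (lift (z * w))) = z • N.mkQ (dAt y (lift w)) + w • N.mkQ (dAt y (lift z))
      rw [hwd (lift (z * w)) (lift z * lift w) (by rw [map_mul, hlift, hlift, hlift]), dAt_mul, map_add, map_smul,
        map_smul, hlift, hlift])
  have hX : ∀ j, δ (y j) = N.mkQ (Pi.single j 1) := fun j => by
    show N.mkQ (dAt y (lift (y j))) = _
    rw [hwd _ (X j) (by rw [hlift, aeval_X])]
    congr 1
    funext i
    by_cases h : i = j
    · subst h; simp [dAt]
    · simp [dAt, pderiv_X_of_ne (Ne.symm h), Pi.single_eq_of_ne h]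
  have h1 := congrArg δ.liftKaehlerDifferential hc
  rw [map_sum, map_zero] at h1
  rw [← Submodule.Quotient.mk_eq_zero, ← Submodule.mkQ_apply, pi_eq_sum_univ c, map_sum, ← h1]
  refine Finset.sum_congr rfl fun j _ => ?_
  rw [map_smul, map_smul, Derivation.liftKaehlerDifferential_comp_D, hX]
  congr 2
  funext i
  by_cases h : j = i
  · subst h; simp
  · rw [if_neg h, Pi.single_eq_of_ne (Ne.symm h)]

/-- a free differential module forces the relations to be the multiples of `a` -/
theorem relations_mul [IsLocalRing A] (a : A) (n : ℕ) (e : KaehlerDifferential O A ≃ₗ[A] (Fin n → A ⧸ Ideal.span {a}))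
    (hsp : Submodule.span A (Set.range fun j => KaehlerDifferential.D O A (y j)) = ⊤)
    (hmin : ∀ c : Fin r → A, ∑ j, c j • KaehlerDifferential.D O A (y j) = 0 → ∀ j, c j ∈ maximalIdeal A)
    (c : Fin r → A) :
    ∑ j, c j • KaehlerDifferential.D O A (y j) = 0 ↔ ∀ j, a ∣ c j := by
  classical
  let θ : (Fin r → A) →ₗ[A] KaehlerDifferential O A :=
    Fintype.linearCombination A fun j => KaehlerDifferential.D O A (y j)
  have hθ : ∀ c, θ c = ∑ j, c j • KaehlerDifferential.D O A (y j) := fun c => rfl
  have haΩ : ∀ ω : KaehlerDifferential O A, a • ω = 0 := fun ω => by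
    apply e.injective
    rw [map_smul, map_zero]
    funext i
    obtain ⟨z, hz⟩ := Ideal.Quotient.mk_surjective (e ω i)
    rw [Pi.smul_apply, ← hz, Algebra.smul_def, Ideal.Quotient.algebraMap_eq, ← map_mul, Pi.zero_apply,
      Ideal.Quotient.eq_zero_iff_mem]
    exact Ideal.mul_mem_right _ _ (Ideal.subset_span rfl)
  rw [← hθ]
  constructor
  swap
  · intro h
    choose b hb using h
    rw [hθ]
    exact Finset.sum_eq_zero fun j _ => by rw [hb, mul_smul, haΩ]
  intro hc
  have hθs : Function.Surjective θ := fun ω => by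
    obtain ⟨b, hb⟩ := (Submodule.mem_span_range_iff_exists_fun A).1 (hsp.ge (Submodule.mem_top (x := ω)))
    exact ⟨b, (hθ b).trans hb⟩
  choose R hR using fun j => (show ∀ j, ∃ R : Fin n → A, ∀ i, Ideal.Quotient.mk _ (R i) = e (θ (Pi.single j 1)) i from
    fun j => ⟨fun i => (Ideal.Quotient.mk_surjective (e (θ (Pi.single j 1)) i)).choose,
      fun i => (Ideal.Quotient.mk_surjective _).choose_spec⟩) j
  choose V hV using fun i : Fin n => hθs (e.symm (Pi.single i 1))
  let ρ : (Fin r → A) →ₗ[A] (Fin n → A) := Fintype.linearCombination A R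
  let ν : (Fin n → A) →ₗ[A] (Fin r → A) := Fintype.linearCombination A V
  have hρ : ∀ c i, Ideal.Quotient.mk (Ideal.span {a}) (ρ c i) = e (θ c) i := by
    intro c i
    rw [Fintype.linearCombination_apply, Finset.sum_apply, map_sum]
    conv_rhs => rw [pi_eq_sum_univ c, map_sum, map_sum, Finset.sum_apply]
    refine Finset.sum_congr rfl fun j _ => ?_
    rw [map_smul, map_smul, Pi.smul_apply, Pi.smul_apply, smul_eq_mul, map_mul,
      show (fun i => if j = i then (1 : A) else 0) = Pi.single j 1 by
        funext l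
        by_cases h : j = l
        · subst h; simp
        · rw [if_neg h, Pi.single_eq_of_ne (Ne.symm h)], ← hR, Algebra.smul_def]
    rfl
  have hν : ∀ b, e (θ (ν b)) = fun i => Ideal.Quotient.mk _ (b i) := by
    intro b
    rw [show ν b = _ from Fintype.linearCombination_apply A V b, map_sum, map_sum]
    funext l
    rw [Finset.sum_apply, Finset.sum_eq_single l (fun i _ hi => by
      rw [map_smul, map_smul, hV, LinearEquiv.apply_symm_apply, Pi.smul_apply, Pi.single_eq_of_ne (Ne.symm hi),
        smul_zero]) (by simp), map_smul, map_smul, hV, LinearEquiv.apply_symm_apply, Pi.smul_apply, Pi.single_eq_same,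
      Algebra.smul_def, mul_one]
    rfl
  let E := ν ∘ₗ ρ
  have hE : ∀ c, θ (c - E c) = 0 := fun c => by
    rw [map_sub, sub_eq_zero]
    apply e.injective
    rw [LinearMap.comp_apply, hν]
    funext i
    rw [hρ]
  have hEs : Function.Surjective E := by
    rw [← LinearMap.range_eq_top]
    refine top_unique (Submodule.le_of_le_smul_of_le_jacobson_bot (I := maximalIdeal A) Module.Finite.fg_top
      (IsLocalRing.jacobson_eq_maximalIdeal ⊥ bot_ne_top).ge fun b _ => ?_)
    rw [show b = E b + (b - E b) by abel]
    refine Submodule.add_mem_sup (LinearMap.mem_range_self E b) ?_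
    have h := hmin _ ((hθ _).symm.trans (hE b))
    rw [pi_eq_sum_univ (b - E b)]
    exact Submodule.sum_mem _ fun j _ => Submodule.smul_mem_smul (h j) Submodule.mem_top
  have hEi : Function.Injective E := OrzechProperty.injective_of_surjective_endomorphism E hEs
  have hρc : ∀ i, a ∣ ρ c i := fun i => by
    rw [← Ideal.mem_span_singleton, ← Ideal.Quotient.eq_zero_iff_mem, hρ, hc, map_zero, Pi.zero_apply]
  choose b hb using hρc
  have hEc : E c = a • ν b := by
    rw [LinearMap.comp_apply, ← map_smul]
    congr 1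
    funext i
    exact hb i
  obtain ⟨c', hc'⟩ := hEs (ν b)
  have : c = a • c' := hEi (by rw [hEc, map_smul, hc'])
  intro j
  exact ⟨c' j, by rw [this]; rfl⟩

section Count

variable [IsLocalRing O] [IsNoetherianRing O] [IsAdicComplete (maximalIdeal O) O]

/-- The kernel of the presentation is generated by `r` elements modulo its square. -/
theorem exists_gens [IsLocalRing A] [Module.Finite O A] {m : ℕ} (π : MvPowerSeries (Fin m) O →ₐ[O] A)
    (hπ : Function.Surjective π) (f : Fin m → MvPowerSeries (Fin m) O)
    (hker : RingHom.ker π = Ideal.span (Set.range f)) (ι : Fin r → Fin m) (hι : Function.Injective ι)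
    (hy : Function.Surjective (aeval (fun t => π (MvPowerSeries.X (ι t))) : P →ₐ[O] A)) :
    ∃ g : Fin r → P, (∀ i, aeval (fun t => π (MvPowerSeries.X (ι t))) (g i) = 0) ∧
      RingHom.ker (aeval (fun t => π (MvPowerSeries.X (ι t))) : P →ₐ[O] A) ≤
        Ideal.span (Set.range g) ⊔ RingHom.ker (aeval (fun t => π (MvPowerSeries.X (ι t))) : P →ₐ[O] A) ^ 2 := by
  classical
  set y : Fin r → A := fun t => π (MvPowerSeries.X (ι t))
  set G : Ideal P := RingHom.ker (aeval y : P →ₐ[O] A) with hGdef
  haveI : IsNoetherianRing A := IsNoetherianRing.of_finite O A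
  have hym : ∀ t, y t ∈ maximalIdeal A := fun t => gen_mem_max hπ _
  obtain ⟨N, hN⟩ := exists_pow_le (O := O) (A := A)
  have hαC : ((aeval y : P →ₐ[O] A).toRingHom).comp (C : O →+* P) = algebraMap O A := RingHom.ext fun c => aeval_C _ _
  let Q := P ⧸ G ^ 2
  -- finiteness
  haveI : Module.Finite O Q := by
    haveI : Algebra.FiniteType O Q := Algebra.FiniteType.of_surjective (Ideal.Quotient.mkₐ O (G ^ 2)) Ideal.Quotient.mk_surjective
    haveI : Algebra.IsIntegral O Q := by
      refine ⟨fun z => ?_⟩
      obtain ⟨F, rfl⟩ := Ideal.Quotient.mk_surjective z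
      obtain ⟨q, hq, hq0⟩ := Algebra.IsIntegral.isIntegral (R := O) (aeval y F)
      refine ⟨q ^ 2, hq.pow 2, ?_⟩
      rw [Polynomial.eval₂_pow, show algebraMap O Q = (Ideal.Quotient.mk (G ^ 2)).comp (algebraMap O P) from rfl,
        ← Polynomial.hom_eval₂, ← map_pow, Ideal.Quotient.eq_zero_iff_mem]
      refine Ideal.pow_mem_pow ?_ 2
      show (aeval y : P →ₐ[O] A).toRingHom (q.eval₂ (algebraMap O P) F) = 0
      rw [Polynomial.hom_eval₂, MvPolynomial.algebraMap_eq, hαC]
      exact hq0
    exact Algebra.IsIntegral.finite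
  let μ : P →ₐ[O] Q := Ideal.Quotient.mkₐ O (G ^ 2)
  let J : Ideal Q := (maximalIdeal O).map (algebraMap O Q) ⊔ Ideal.span (Set.range fun t => μ (X t))
  haveI : IsAdicComplete (maximalIdeal O) Q := Compl.isAdicComplete_of_finite (maximalIdeal O) Q
  haveI : IsAdicComplete ((maximalIdeal O).map (algebraMap O Q)) Q :=
    (IsAdicComplete.map_algebraMap_iff (S := Q) _ _).2 ‹_›
  haveI : IsNoetherianRing Q := IsNoetherianRing.of_finite O Q
  have hrad : J ≤ ((maximalIdeal O).map (algebraMap O Q)).radical := by
    refine sup_le Ideal.le_radical (Ideal.span_le.2 ?_)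
    rintro _ ⟨t, rfl⟩
    refine ⟨N + N, ?_⟩
    have h0 := hN (Ideal.pow_mem_pow (hym t) N)
    rw [← hαC, ← Ideal.map_map, Ideal.mem_map_iff_of_surjective (aeval y : P →ₐ[O] A).toRingHom hy] at h0
    obtain ⟨p, hp, hpe⟩ := h0
    have hmem : (X t : P) ^ N - p ∈ G := by
      show aeval y _ = 0
      rw [map_sub, map_pow, aeval_X, show aeval y p = y t ^ N from hpe, sub_self]
    have hsq : μ (((X t : P) ^ N - p) * ((X t : P) ^ N - p)) = 0 :=
      Ideal.Quotient.eq_zero_iff_mem.2 (pow_two G ▸ Ideal.mul_mem_mul hmem hmem)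
    have hp' : μ p ∈ (maximalIdeal O).map (algebraMap O Q) := by
      have := Ideal.mem_map_of_mem μ.toRingHom hp
      rw [Ideal.map_map] at this
      exact this
    have e : μ (X t) ^ (N + N) = μ (((X t : P) ^ N - p) * ((X t : P) ^ N - p)) + μ p * (2 * μ (X t) ^ N - μ p) := by
      rw [map_mul, map_sub, map_pow]; ring
    rw [e, hsq, zero_add]
    exact Ideal.mul_mem_right _ _ hp'
  obtain ⟨N', hN'⟩ := Ideal.exists_pow_le_of_le_radical_of_fg hrad (IsNoetherian.noetherian _)
  haveI : IsAdicComplete J Q :=
    Compl.isAdicComplete_of_le_of_pow_le (I := (maximalIdeal O).map (algebraMap O Q)) Q le_sup_left hN'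
  choose p hp using fun l : Fin m => hy (π (MvPowerSeries.X l))
  let p' : Fin m → P := fun l => if h : ∃ t, ι t = l then X h.choose else p l
  have hp' : ∀ l, aeval y (p' l) = π (MvPowerSeries.X l) := fun l => by
    simp only [p']
    split
    · next h => rw [aeval_X]; simp only [y]; rw [h.choose_spec]
    · exact hp l
  have hpι : ∀ t, p' (ι t) = X t := fun t => by
    have h : ∃ s, ι s = ι t := ⟨t, rfl⟩
    simp only [p', dif_pos h]
    rw [hι h.choose_spec]
  have hcc : ∀ F : P, aeval y F ∈ maximalIdeal A → constantCoeff F ∈ maximalIdeal O := by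
    intro F hF
    rw [← algebraMap_mem_iff hπ]
    have h : aeval y F - algebraMap O A (constantCoeff F) ∈ maximalIdeal A := by
      clear hF
      induction F using MvPolynomial.induction_on with
      | C c => simp
      | add u w hu hw =>
        have := add_mem hu hw
        rwa [show aeval y u - algebraMap O A (constantCoeff u) + (aeval y w - algebraMap O A (constantCoeff w))
          = aeval y (u + w) - algebraMap O A (constantCoeff (u + w)) by simp only [map_add]; ring] at this
      | mul_X u i hu =>
        rw [map_mul, map_mul, aeval_X, constantCoeff_X, mul_zero, map_zero, sub_zero]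
        exact Ideal.mul_mem_left _ _ (hym i)
    simpa using sub_mem hF h
  have hμJ : ∀ F : P, μ F - algebraMap O Q (constantCoeff F) ∈ J := by
    intro F
    induction F using MvPolynomial.induction_on with
    | C c =>
      rw [show μ (C c) = algebraMap O Q c from μ.commutes c, constantCoeff_C, sub_self]; exact zero_mem _
    | add u w hu hw =>
      have := add_mem hu hw
      rwa [show μ u - algebraMap O Q (constantCoeff u) + (μ w - algebraMap O Q (constantCoeff w))
        = μ (u + w) - algebraMap O Q (constantCoeff (u + w)) by simp only [map_add]; ring] at this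
    | mul_X u i hu =>
      rw [map_mul, map_mul, constantCoeff_X, mul_zero, map_zero, sub_zero]
      exact Ideal.mul_mem_left _ _ (Ideal.mem_sup_right (Ideal.subset_span ⟨i, rfl⟩))
  have hpJ : ∀ l, μ (p' l) ∈ J := fun l => by
    rw [show μ (p' l) = (μ (p' l) - algebraMap O Q (constantCoeff (p' l))) + algebraMap O Q (constantCoeff (p' l)) by ring]
    exact add_mem (hμJ _) (Ideal.mem_sup_left (Ideal.mem_map_of_mem _ (hcc _ (by rw [hp']; exact gen_mem_max hπ l))))
  obtain ⟨ev, hev⟩ := H2Alg.PSHom.exists_algHom (A := O) J (fun l => μ (p' l)) hpJ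
  let bar : Q →ₐ[O] A := Ideal.Quotient.liftₐ (G ^ 2) (aeval y) fun z hz => (Ideal.pow_le_self two_ne_zero hz : z ∈ G)
  have hbar : bar.comp ev = π := by
    refine H2Alg.PSHom.algHom_ext (maximalIdeal A) (fun l => ?_) fun l => ?_ <;>
      rw [AlgHom.comp_apply, hev, show bar (μ (p' l)) = aeval y (p' l) from rfl, hp']
    exact gen_mem_max hπ l
  let j : P →ₐ[O] MvPowerSeries (Fin m) O := aeval fun t => MvPowerSeries.X (ι t)
  have hevj : ∀ F, ev (j F) = μ F := by
    intro F
    show (ev.comp j) F = μ F
    congr 1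
    refine MvPolynomial.algHom_ext fun t => ?_
    simp only [j, AlgHom.comp_apply, aeval_X, hev, hpι]
  have hπj : ∀ F, π (j F) = aeval y F := fun F => by
    show (π.comp j) F = _
    congr 1
    refine MvPolynomial.algHom_ext fun t => ?_
    simp [j, y]
  let w : Fin m → Q := fun i => ev (f i)
  let Gb : Ideal Q := G.map μ
  have hw : ∀ i, w i ∈ Gb := fun i => by
    obtain ⟨F, hF⟩ := Ideal.Quotient.mk_surjective (w i)
    rw [← hF]
    refine Ideal.mem_map_of_mem μ ?_
    show aeval y F = 0
    calc aeval y F = bar (ev (f i)) := by rw [show ev (f i) = μ F from hF.symm]; rfl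
      _ = π (f i) := congr($hbar (f i))
      _ = 0 := by
        have : f i ∈ RingHom.ker π := hker ▸ Ideal.subset_span ⟨i, rfl⟩
        exact this
  have hGb : Gb ≤ Ideal.span (Set.range w) := by
    rw [Ideal.map_le_iff_le_comap]
    intro F hF
    rw [Ideal.mem_comap]
    have hmem : j F ∈ RingHom.ker π := by
      show π (j F) = 0
      rw [hπj]; exact hF
    rw [hker] at hmem
    have := Ideal.mem_map_of_mem ev hmem
    rw [hevj, Ideal.map_span, ← Set.range_comp] at this
    exact this
  -- the relations coming from the redundant variables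
  let Z := {l : Fin m // ∀ t, ι t ≠ l}
  let Rl : Z → MvPowerSeries (Fin m) O := fun l => MvPowerSeries.X l.1 - j (p' l.1)
  have hRl : ∀ l, ∃ c : Fin m → MvPowerSeries (Fin m) O, ∑ i, c i * f i = Rl l := fun l => by
    refine Ideal.mem_span_range_iff_exists_fun.1 ?_
    rw [← hker]
    show π _ = 0
    rw [map_sub, hπj, hp', sub_self]
  choose c hc using hRl
  have hf0 : ∀ i, MvPowerSeries.constantCoeff (f i) ∈ maximalIdeal O := fun i => constantCoeff_mem (π := π) (by
    have : f i ∈ RingHom.ker π := hker ▸ Ideal.subset_span ⟨i, rfl⟩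
    rw [show π (f i) = 0 from this]
    exact zero_mem _)
  let K := ResidueField O
  let Cm : Matrix Z (Fin m) K := fun l i => residue O (MvPowerSeries.constantCoeff (c l i))
  let Dm : Matrix (Fin m) Z K := fun i l => residue O (MvPowerSeries.coeff (Finsupp.single l.1 1) (f i))
  have hmulcoeff : ∀ (u v : MvPowerSeries (Fin m) O) (l : Fin m), MvPowerSeries.coeff (Finsupp.single l 1) (u * v)
      = MvPowerSeries.constantCoeff u * MvPowerSeries.coeff (Finsupp.single l 1) v
        + MvPowerSeries.coeff (Finsupp.single l 1) u * MvPowerSeries.constantCoeff v := by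
    intro u v l
    rw [MvPowerSeries.coeff_mul, Finsupp.antidiagonal_single, Finset.sum_map,
      show Finset.HasAntidiagonal.antidiagonal 1 = ({(0, 1), (1, 0)} : Finset (ℕ × ℕ)) from rfl,
      Finset.sum_pair (by decide)]
    simp [MvPowerSeries.coeff_zero_eq_constantCoeff_apply]
  have hCD : Cm * Dm = 1 := by
    ext l l'
    have e := congrArg (fun F => residue O (MvPowerSeries.coeff (Finsupp.single l'.1 1) F)) (hc l)
    simp only [map_sum, hmulcoeff, map_add, map_mul] at e
    rw [Matrix.mul_apply]
    have e0 : ∀ i, residue O (MvPowerSeries.constantCoeff (f i)) = 0 := fun i => (residue_eq_zero_iff _).2 (hf0 i)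
    simp only [e0, mul_zero, add_zero] at e
    refine e.trans ?_
    have hz : MvPowerSeries.coeff (Finsupp.single l'.1 1) (j (p' l.1)) = 0 := by
      have hj : j = (MvPolynomial.coeToMvPowerSeries.algHom O).comp (MvPolynomial.rename ι) := by
        refine MvPolynomial.algHom_ext fun t => ?_
        simp [j]
      rw [hj, AlgHom.comp_apply, MvPolynomial.coeToMvPowerSeries.algHom_apply, Algebra.algebraMap_self, MvPowerSeries.map_id]
      simp only [RingHom.id_apply, MvPolynomial.coeff_coe]
      refine MvPolynomial.coeff_rename_eq_zero _ _ _ fun u hu => ?_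
      exfalso
      by_cases h : u = 0
      · rw [h, Finsupp.mapDomain_zero] at hu
        exact Finsupp.single_ne_zero.2 one_ne_zero hu.symm
      · obtain ⟨t, ht⟩ := Finsupp.ne_iff.1 h
        have := Finsupp.mapDomain_apply hι u t
        rw [hu, Finsupp.single_eq_of_ne (l'.2 t)] at this
        exact ht (by simpa using this.symm)
    show residue O (MvPowerSeries.coeff _ (MvPowerSeries.X l.1 - j (p' l.1))) = _
    rw [map_sub, hz, sub_zero, MvPowerSeries.coeff_X, Matrix.one_apply]
    by_cases h : l = l'
    · subst h; simp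
    · rw [if_neg, if_neg h, map_zero]
      intro h'
      exact h (Subtype.ext (Finsupp.single_left_injective one_ne_zero h').symm)
  let lin : (Z → K) →ₗ[K] (Fin m → K) := Matrix.vecMulLinear Cm
  have hlin : Function.Injective lin := fun u v h => by
    have h' : Matrix.vecMul (Matrix.vecMul u Cm) Dm = Matrix.vecMul (Matrix.vecMul v Cm) Dm :=
      congrArg (fun z => Matrix.vecMul z Dm) h
    rwa [Matrix.vecMul_vecMul, Matrix.vecMul_vecMul, hCD, Matrix.vecMul_one, Matrix.vecMul_one] at h'
  obtain ⟨U, hU⟩ := Submodule.exists_isCompl (LinearMap.range lin)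
  have hcard : Fintype.card Z + r = m := by
    have h1 : Fintype.card {l : Fin m // ∃ t, ι t = l} = r := by
      rw [← Nat.card_eq_fintype_card]
      exact (Nat.card_congr ((Equiv.ofInjective ι hι).trans (Equiv.subtypeEquivRight fun l => Iff.rfl))).symm.trans
        (Nat.card_fin r)
    have h2 := Fintype.card_subtype_compl fun l : Fin m => ∃ t, ι t = l
    rw [Fintype.card_fin, h1] at h2
    have h3 : Fintype.card Z = Fintype.card {l : Fin m // ¬ ∃ t, ι t = l} :=
      Fintype.card_congr (Equiv.subtypeEquivRight fun l => by simp)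
    have h4 : r ≤ m := by simpa using Fintype.card_le_of_injective ι hι
    omega
  have hUr : Module.finrank K U = r := by
    have h1 := Submodule.finrank_add_eq_of_isCompl hU
    rw [LinearMap.finrank_range_of_inj hlin, Module.finrank_fintype_fun_eq_card, Module.finrank_fin_fun] at h1
    omega
  let bU := Module.finBasisOfFinrankEq K U hUr
  choose V hV using fun t i => residue_surjective (R := O) ((bU t : Fin m → K) i)
  let gb : Fin r → Q := fun t => ∑ i, algebraMap O Q (V t i) * w i
  have hle : Gb ≤ Ideal.span (Set.range gb) ⊔ J * Gb := by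
    refine hGb.trans (Ideal.span_le.2 ?_)
    rintro _ ⟨i, rfl⟩
    have hmem : (Pi.single i 1 : Fin m → K) ∈ LinearMap.range lin ⊔ U := hU.sup_eq_top.ge Submodule.mem_top
    obtain ⟨z, ⟨lam, rfl⟩, u, hu, hzu⟩ := Submodule.mem_sup.1 hmem
    choose L hL using fun l => residue_surjective (R := O) (lam l)
    choose M hM using fun t => residue_surjective (R := O) (bU.repr ⟨u, hu⟩ t)
    have key : ∀ l, (if i = l then (1 : O) else 0)
        - ((∑ z, L z * MvPowerSeries.constantCoeff (c z l)) + ∑ t, M t * V t l) ∈ maximalIdeal O := by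
      intro l
      rw [← residue_eq_zero_iff, map_sub, map_add, map_sum, map_sum, sub_eq_zero]
      have e := congrFun hzu l
      rw [Pi.add_apply] at e
      have hu' : u l = ∑ t, bU.repr ⟨u, hu⟩ t • (bU t : Fin m → K) l := by
        conv_lhs => rw [show u = ((⟨u, hu⟩ : U) : Fin m → K) from rfl, ← bU.sum_repr ⟨u, hu⟩]
        rw [AddSubmonoidClass.coe_finsetSum, Finset.sum_apply]
        rfl
      rw [hu'] at e
      simp only [map_mul, hL, hM, hV]
      rw [show residue O (if i = l then (1 : O) else 0) = (Pi.single i 1 : Fin m → K) l by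
        by_cases h : i = l
        · subst h; simp
        · rw [if_neg h, map_zero, Pi.single_eq_of_ne (Ne.symm h)], ← e]
      simp [lin, Cm, Matrix.vecMul, dotProduct]
    have e : w i = (∑ l, algebraMap O Q ((if i = l then (1 : O) else 0)
          - ((∑ z, L z * MvPowerSeries.constantCoeff (c z l)) + ∑ t, M t * V t l)) * w l)
        + ∑ z, algebraMap O Q (L z) * ∑ l, algebraMap O Q (MvPowerSeries.constantCoeff (c z l)) * w l
        + ∑ t, algebraMap O Q (M t) * gb t := by
      simp only [gb, map_sub, map_add, map_sum, map_mul, sub_mul, add_mul, Finset.sum_mul, Finset.mul_sum,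
        Finset.sum_sub_distrib, Finset.sum_add_distrib, ← mul_assoc]
      rw [Finset.sum_comm (γ := Fin m) (α := Z), Finset.sum_comm (γ := Fin m) (α := Fin r),
        Finset.sum_eq_single i (fun b _ hb => by rw [if_neg (Ne.symm hb), map_zero, zero_mul]) (by simp),
        if_pos rfl, map_one, one_mul]
      ring
    rw [SetLike.mem_coe, e]
    refine add_mem (add_mem (Ideal.mem_sup_right (Ideal.sum_mem _ fun l _ => ?_))
      (Ideal.mem_sup_right (Ideal.sum_mem _ fun z _ => Ideal.mul_mem_left _ _ ?_)))
      (Ideal.mem_sup_left (Ideal.sum_mem _ fun t _ => Ideal.mul_mem_left _ _ (Ideal.subset_span ⟨t, rfl⟩)))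
    · exact Ideal.mul_mem_mul (Ideal.mem_sup_left (Ideal.mem_map_of_mem _ (key l))) (hw l)
    · have e2 : ∑ l, algebraMap O Q (MvPowerSeries.constantCoeff (c z l)) * w l
          = - ∑ l, (ev (c z l) - algebraMap O Q (MvPowerSeries.constantCoeff (c z l))) * w l := by
        rw [← sub_eq_zero, sub_neg_eq_add, ← Finset.sum_add_distrib]
        simp only [← add_mul, add_sub_cancel]
        simp only [w, ← map_mul, ← map_sum, hc]
        rw [map_sub, hev, hevj, sub_self]
      rw [e2]
      refine neg_mem (Ideal.sum_mem _ fun l _ => Ideal.mul_mem_mul ?_ (hw l))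
      have h := Ideal.mem_map_of_mem ev (sub_constantCoeff_mem (c z l))
      rw [map_sub, show ev (MvPowerSeries.C (MvPowerSeries.constantCoeff (c z l))) = _ from ev.commutes _] at h
      refine Ideal.map_le_iff_le_comap.2 (Ideal.span_le.2 ?_) h
      rintro _ ⟨l', rfl⟩
      show ev _ ∈ J
      rw [hev]
      exact hpJ l'
  have hfin : Gb ≤ Ideal.span (Set.range gb) :=
    Submodule.le_of_le_smul_of_le_jacobson_bot (IsNoetherian.noetherian _) (IsAdicComplete.le_jacobson_bot J) hle
  have hgb : ∀ t, gb t ∈ Gb := fun t => Ideal.sum_mem _ fun i _ => Ideal.mul_mem_left _ _ (hw i)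
  choose g hg hge using fun t => (Ideal.mem_map_iff_of_surjective μ Ideal.Quotient.mk_surjective).1 (hgb t)
  refine ⟨g, hg, fun F hF => ?_⟩
  have h1 := hfin (Ideal.mem_map_of_mem μ hF)
  rw [show Set.range gb = μ '' Set.range g by
      rw [← Set.range_comp]; exact congrArg Set.range (funext fun t => (hge t).symm), ← Ideal.map_span,
    Ideal.mem_map_iff_of_surjective μ Ideal.Quotient.mk_surjective] at h1
  obtain ⟨F', hF', hFe⟩ := h1
  rw [show F = F' + (F - F') by ring]
  refine Submodule.add_mem_sup hF' ?_
  rw [← Ideal.Quotient.eq]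
  exact hFe.symm

/-- the data of a presentation -/
theorem exists_data [IsLocalRing A] [Module.Finite O A] {m : ℕ} (π : MvPowerSeries (Fin m) O →ₐ[O] A)
    (hπ : Function.Surjective π) (f : Fin m → MvPowerSeries (Fin m) O)
    (hker : RingHom.ker π = Ideal.span (Set.range f)) (a : O)
    (hinj : Function.Injective fun z : A => algebraMap O A a * z) (n : ℕ)
    (e : KaehlerDifferential O A ≃ₗ[A] (Fin n → A ⧸ Ideal.span {algebraMap O A a})) :
    ∃ (r : ℕ) (y : Fin r → A) (D : Data O r a), Function.Surjective (aeval y : MvPolynomial (Fin r) O →ₐ[O] A) ∧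
      D.G = RingHom.ker (aeval y : MvPolynomial (Fin r) O →ₐ[O] A) := by
  classical
  obtain ⟨r, ι, hι, hsp, hmin⟩ := exists_subset hπ
  set y : Fin r → A := fun t => π (MvPowerSeries.X (ι t))
  have hy : Function.Surjective (aeval y : MvPolynomial (Fin r) O →ₐ[O] A) := gen_of_span hπ ι hsp
  obtain ⟨g, hg, hgen⟩ := exists_gens π hπ f hker ι hι hy
  set G := RingHom.ker (aeval y : MvPolynomial (Fin r) O →ₐ[O] A)
  have hrel := relations_mul y (algebraMap O A a) n e hsp hmin
  have hd : ∀ F ∈ G, ∀ t, algebraMap O A a ∣ dAt y F t := fun F hF => (hrel _).1 (by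
    rw [← d_aeval, show aeval y F = 0 from hF, map_zero])
  have hd' : ∀ F ∈ G, dAt y F ∈ Submodule.span A (Set.range fun i => dAt y (g i)) := by
    intro F hF
    obtain ⟨u, hu, w, hw, rfl⟩ := Submodule.mem_sup.1 (hgen hF)
    rw [dAt_add]
    refine add_mem ?_ ?_
    · obtain ⟨b, rfl⟩ := Ideal.mem_span_range_iff_exists_fun.1 hu
      have e1 : dAt y (∑ i, b i * g i) = ∑ i, aeval y (b i) • dAt y (g i) := by
        funext t
        simp only [dAt, map_sum, Finset.sum_apply, Pi.smul_apply, smul_eq_mul]
        refine Finset.sum_congr rfl fun i _ => ?_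
        rw [pderiv_mul, map_add, map_mul, map_mul, hg i]
        ring
      rw [e1]
      exact Submodule.sum_mem _ fun i _ => Submodule.smul_mem _ _ (Submodule.subset_span ⟨i, rfl⟩)
    · rw [pow_two] at hw
      refine Submodule.mul_induction_on hw (fun p hp q hq => ?_) fun p q hp hq => ?_
      · rw [dAt_mul, show aeval y p = 0 from hp, show aeval y q = 0 from hq, zero_smul, zero_smul, add_zero]
        exact zero_mem _
      · rw [dAt_add]; exact add_mem hp hq
  choose Mb hMb using fun i t => hd (g i) (hg i) t
  choose M hM using fun i t => hy (Mb i t)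
  have hcol : ∀ l, ∃ b : Fin r → A, ∀ t, ∑ i, b i * Mb i t = if l = t then 1 else 0 := by
    intro l
    have h1 : (algebraMap O A a) • (Pi.single l 1 : Fin r → A)
        ∈ Submodule.span A (dAt y '' (G : Set (MvPolynomial (Fin r) O))) :=
      relations_eq y hy _ ((hrel _).2 fun t => by
        rw [Pi.smul_apply, smul_eq_mul]; exact dvd_mul_right _ _)
    have h2 := (Submodule.span_le.2 (by rintro _ ⟨F, hF, rfl⟩; exact hd' F hF)) h1
    obtain ⟨b, hb⟩ := (Submodule.mem_span_range_iff_exists_fun A).1 h2
    refine ⟨b, fun t => hinj ?_⟩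
    have e1 := congrFun hb t
    simp only [Finset.sum_apply, Pi.smul_apply, smul_eq_mul, hMb] at e1
    show algebraMap O A a * _ = algebraMap O A a * _
    rw [Finset.mul_sum]
    refine Eq.trans (Finset.sum_congr rfl fun i _ => by ring) (e1.trans ?_)
    by_cases h : l = t
    · subst h; simp
    · rw [if_neg h, Pi.single_eq_of_ne (Ne.symm h)]
  choose B hB using hcol
  choose M' hM' using fun i t => hy (B i t)
  have hleft : (Matrix.of B) * (Matrix.of Mb) = 1 := by
    ext i t
    rw [Matrix.mul_apply, Matrix.one_apply]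
    exact hB i t
  have hright := mul_eq_one_comm.1 hleft
  let Gfg : G.FG := IsNoetherian.noetherian _
  let Sg := Ideal.span (Set.range g)
  have hloc : ∃ s, s - 1 ∈ G ∧ ∀ F ∈ G, s * F ∈ Sg := by
    let Nq : Ideal (MvPolynomial (Fin r) O ⧸ Sg) := G.map (Ideal.Quotient.mk Sg)
    have hle : Nq ≤ Nq • Nq := by
      rw [smul_eq_mul, ← Ideal.map_mul, ← pow_two]
      refine (Ideal.map_mono hgen).trans ?_
      rw [Ideal.map_sup, Ideal.map_quotient_self, bot_sup_eq]
    obtain ⟨s', hs', hann⟩ := Submodule.exists_sub_one_mem_and_smul_eq_zero_of_fg_of_le_smul Nq Nq (Gfg.map _) hle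
    obtain ⟨d, hd1, hd2⟩ := (Ideal.mem_map_iff_of_surjective _ Ideal.Quotient.mk_surjective).1 hs'
    refine ⟨d + 1, by simpa using hd1, fun F hF => ?_⟩
    rw [← Ideal.Quotient.eq_zero_iff_mem, map_mul, map_add, map_one, hd2, sub_add_cancel]
    exact hann _ (Ideal.mem_map_of_mem _ hF)
  obtain ⟨s, hs1, hs2⟩ := hloc
  refine ⟨r, y, ⟨G, g, s, Matrix.of M, Matrix.of M', hg, hs1, hs2, fun F hF t => ?_, fun i t => ?_, fun i t => ?_,
    fun i t => ?_⟩, hy, rfl⟩
  · obtain ⟨b, hb⟩ := hd F hF t
    obtain ⟨B', hB'⟩ := hy b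
    rw [show pderiv t F = (pderiv t F - C a * B') + C a * B' by ring]
    refine Submodule.add_mem_sup ?_ (Ideal.mul_mem_right _ _ (Ideal.subset_span rfl))
    show aeval y _ = 0
    rw [map_sub, map_mul, aeval_C, hB', ← hb, sub_eq_zero]
    rfl
  · show aeval y _ = 0
    rw [map_sub, map_mul, aeval_C, Matrix.of_apply, hM, ← hMb, sub_eq_zero]
    rfl
  · show aeval y _ = 0
    have h := congrFun (congrFun hright i) t
    simp only [Matrix.mul_apply, Matrix.of_apply, Matrix.one_apply] at h
    simp only [map_sub, map_sum, map_mul, Matrix.of_apply, hM, hM', h]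
    split_ifs <;> simp
  · show aeval y _ = 0
    simp only [map_sub, map_sum, map_mul, Matrix.of_apply, hM, hM', hB]
    split_ifs <;> simp

end Count

end Groth.Agent.Font29
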